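import Cfsg.Agent.BS.TIFN

/-!
The Feit–Thompson bound on character degrees from an abelian subgroup `H` such that centralizers
of non-central elements meet at most one conjugate of `H`.
-/

set_option autoImplicit false
open scoped ComplexConjugate
open Cfsg CL.Char CL.TIFN

namespace CL.FTB

section Average

variable {L : Type*} [Group L] [Fintype L]

theorem irr_sum_mul_eq_zero (K : Subgroup L) [hK : K.Normal] [Fintype K] {χ : L → ℂ}
    (hχ : IsIrrCharacter L χ) (hk : ∃ k ∈ K, χ k ≠ χ 1) (g : L) : ∑ k : K, χ (k * g) = 0 := by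
  classical
  have hcl : IsClassFunction L (fun x => if x ∈ K then (1 : ℂ) else 0) := by
    intro x y
    have : y * x * y⁻¹ ∈ K ↔ x ∈ K :=
      ⟨fun h => by simpa [mul_assoc] using hK.conj_mem _ h y⁻¹, fun h => hK.conj_mem _ h y⟩
    simp only [this]
  have h1 := irr_sum_mul_apply_mul hχ hcl g
  rwa [sum_ite_mem_mul K (fun x => χ (x * g)), sum_ite_mem_mul K χ, sum_res_eq_zero K hχ hk,
    zero_div, zero_mul] at h1

/-- Averaging a character over the cosets of a normal subgroup not in its kernel lowers the norm by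
at least one. -/
theorem exists_average (K : Subgroup L) [K.Normal] [Fintype K] {χ : L → ℂ}
    (hχ : IsCharacter L χ) (hk : ∃ k ∈ K, χ k ≠ χ 1) :
    ∃ β : L → ℂ, (∀ x, ∑ k : K, χ (k * x) = (Nat.card K : ℂ) * β x) ∧
      ∑ x, ‖β x‖ ^ 2 + Nat.card L ≤ ∑ x, ‖χ x‖ ^ 2 := by
  classical
  obtain ⟨m, -, hm⟩ := char_exists_eq_sum hχ
  let P : IrrCharacter L → Prop := fun ψ => ∃ k ∈ K, ψ.1 k ≠ ψ.1 1
  let α : L → ℂ := ∑ ψ ∈ Finset.univ.filter P, (m ψ : ℂ) • ψ.1
  let β : L → ℂ := ∑ ψ ∈ Finset.univ.filter (fun ψ => ¬ P ψ), (m ψ : ℂ) • ψ.1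
  have hαβ : χ = α + β := by
    rw [hm]; exact (Finset.sum_filter_add_sum_filter_not _ _ _).symm
  have hαc : IsCharacter L α := char_sum _ fun ψ _ => char_natCast_smul _ (irr_isCharacter ψ.2)
  have hβK : ∀ k ∈ K, ∀ x, β (k * x) = β x := by
    intro k hk x
    simp only [β, Finset.sum_apply, Pi.smul_apply]
    refine Finset.sum_congr rfl fun ψ hψ => ?_
    have h := (Finset.mem_filter.1 hψ).2
    simp only [P, not_exists, not_and, not_not] at h
    rw [char_apply_mul_of_eq_one (irr_isCharacter ψ.2) (h k hk)]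
  have hαK : ∀ x, ∑ k : K, α (k * x) = 0 := by
    intro x
    simp only [α, Finset.sum_apply, Pi.smul_apply, smul_eq_mul]
    rw [Finset.sum_comm]
    refine Finset.sum_eq_zero fun ψ hψ => ?_
    rw [← Finset.mul_sum, irr_sum_mul_eq_zero K ψ.2 (Finset.mem_filter.1 hψ).2, mul_zero]
  have horth : classInner α β = 0 := by
    simp only [α, β, classInner_sum_left, classInner_sum_right, classInner_smul_left,
      classInner_smul_right]
    refine Finset.sum_eq_zero fun ψ hψ => ?_
    rw [Finset.sum_eq_zero, mul_zero]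
    intro φ hφ
    rw [irr_inner_of_ne φ.2 ψ.2, mul_zero]
    intro h
    have h1 : φ = ψ := Subtype.ext h
    exact (Finset.mem_filter.1 hψ).2 (h1 ▸ (Finset.mem_filter.1 hφ).2)
  have hα0 : α ≠ 0 := by
    intro h
    obtain ⟨k, hk, hne⟩ := hk
    refine hne ?_
    rw [hαβ, h, zero_add, ← hβK k hk 1, mul_one]
  refine ⟨β, fun x => ?_, ?_⟩
  · rw [hαβ]
    simp only [Pi.add_apply, Finset.sum_add_distrib, hαK, zero_add]
    rw [Finset.sum_congr rfl (fun (k : K) _ => hβK k k.2 x), Finset.sum_const, Finset.card_univ,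
      nsmul_eq_mul, Nat.card_eq_fintype_card]
  · obtain ⟨n, hn⟩ := char_inner_nat hαc hαc
    have hn0 : n ≠ 0 := by
      rintro rfl
      exact hα0 (classInner_self_eq_zero.1 (by rw [hn, Nat.cast_zero]))
    have h1 : classInner χ χ = n + classInner β β := by
      rw [hαβ, classInner_add_left, classInner_add_right, classInner_add_right, hn, horth,
        classInner_eq_zero_comm.1 horth]
      ring
    have h2 := congrArg Complex.re h1
    rw [Complex.add_re, classInner_self_re, classInner_self_re, Complex.natCast_re] at h2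
    have h3 : (0 : ℝ) < Nat.card L := Nat.cast_pos.2 Nat.card_pos
    have h4 : (1 : ℝ) ≤ n := by exact_mod_cast Nat.one_le_iff_ne_zero.2 hn0
    field_simp at h2
    nlinarith

end Average

variable {G : Type*} [Group G] [Fintype G]

/-- If the conjugates of a set `S` of non-identity elements by elements in different cosets of `N`
are disjoint, then an irreducible character has norm less than one on `S`, relative to `N`. -/
theorem sum_norm_sq_lt_card (N : Subgroup G) (S : Finset G) (h1 : (1 : G) ∉ S)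
    (hS : ∀ g : G, ∀ x ∈ S, g * x * g⁻¹ ∈ S → g ∈ N) {χ : G → ℂ} (hχ : IsIrrCharacter G χ) :
    ∑ x ∈ S, ‖χ x‖ ^ 2 < Nat.card N := by
  classical
  have hG : (0 : ℝ) < Nat.card G := Nat.cast_pos.2 Nat.card_pos
  have hN : (0 : ℝ) < Nat.card N := Nat.cast_pos.2 Nat.card_pos
  have e1 : ∀ g : G, ∑ x ∈ S, ‖χ x‖ ^ 2 =
      ∑ y : G, if g * y * g⁻¹ ∈ S then ‖χ y‖ ^ 2 else 0 := by
    intro g
    rw [← Finset.sum_filter]
    refine (Finset.sum_bij (fun y _ => g * y * g⁻¹) (fun y hy => (Finset.mem_filter.1 hy).2)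
      (fun a _ b _ h => by simpa using h) (fun x hx => ⟨g⁻¹ * x * g, ?_, by group⟩)
      (fun y _ => by rw [irr_isClassFunction hχ y g])).symm
    rw [Finset.mem_filter]
    exact ⟨Finset.mem_univ _, by simpa [mul_assoc] using hx⟩
  have e2 : ∀ y : G, ((Finset.univ.filter fun g : G => g * y * g⁻¹ ∈ S).card : ℝ) ≤
      if y = 1 then 0 else (Nat.card N : ℝ) := by
    intro y
    split_ifs with hy
    · subst hy
      simp [h1]
    · rcases (Finset.univ.filter fun g : G => g * y * g⁻¹ ∈ S).eq_empty_or_nonempty with h | h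
      · rw [h]; simp
      · obtain ⟨g₀, hg₀⟩ := h
        have hg₀' := (Finset.mem_filter.1 hg₀).2
        have : Fintype N := Fintype.ofFinite N
        rw [Nat.card_eq_fintype_card, Nat.cast_le, ← Finset.card_univ]
        refine Finset.card_le_card_of_injOn (fun g => if h : g * g₀⁻¹ ∈ N then ⟨_, h⟩ else 1)
          (fun _ _ => Finset.mem_univ _) ?_
        have key : ∀ g ∈ (Finset.univ.filter fun g : G => g * y * g⁻¹ ∈ S), g * g₀⁻¹ ∈ N := by
          intro g hg
          refine hS _ _ hg₀' ?_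
          have := (Finset.mem_filter.1 hg).2
          convert this using 1
          group
        intro a ha b hb hab
        simp only [dif_pos (key a ha), dif_pos (key b hb), Subtype.mk.injEq] at hab
        simpa using hab
  have e3 : (Nat.card G : ℝ) * ∑ x ∈ S, ‖χ x‖ ^ 2 =
      ∑ y : G, ((Finset.univ.filter fun g : G => g * y * g⁻¹ ∈ S).card : ℝ) * ‖χ y‖ ^ 2 := by
    rw [Nat.card_eq_fintype_card, ← Finset.card_univ, ← nsmul_eq_mul, ← Finset.sum_const,
      Finset.sum_congr rfl (fun g _ => e1 g), Finset.sum_comm]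
    refine Finset.sum_congr rfl fun y _ => ?_
    rw [← Finset.sum_filter, Finset.sum_const, nsmul_eq_mul]
  have e4 : ∑ y : G, ((Finset.univ.filter fun g : G => g * y * g⁻¹ ∈ S).card : ℝ) * ‖χ y‖ ^ 2 <
      ∑ y : G, (Nat.card N : ℝ) * ‖χ y‖ ^ 2 := by
    refine Finset.sum_lt_sum (fun y _ => ?_) ⟨1, Finset.mem_univ _, ?_⟩
    · refine mul_le_mul_of_nonneg_right ((e2 y).trans ?_) (by positivity)
      split_ifs
      · exact hN.le
      · exact le_rfl
    · refine mul_lt_mul_of_pos_right ((e2 1).trans_lt (by simpa using hN)) ?_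
      exact pow_pos (norm_pos_iff.2 (irr_apply_one_ne_zero hχ)) 2
  rw [← e3, ← Finset.mul_sum, irr_sum_norm_sq hχ, mul_comm] at e4
  exact lt_of_mul_lt_mul_right e4 hG.le

/-- Feit–Thompson, first inequality. -/
theorem card_mul_sq_lt (H : Subgroup G) [Fintype H] (hab : ∀ a ∈ H, ∀ b ∈ H, a * b = b * a)
    (hZ : H ⊓ Subgroup.center G = ⊥)
    (hone : ∀ x : G, x ∉ Subgroup.center G → ∀ g : G, (∃ h ∈ H, h ≠ 1 ∧ h * x = x * h) →
      (∃ h ∈ H, h ≠ 1 ∧ h * (g * x * g⁻¹) = (g * x * g⁻¹) * h) →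
      g ∈ Subgroup.normalizer (H : Set G))
    {χ : G → ℂ} (hχ : IsIrrCharacter G χ) (hker : ∃ h ∈ H, χ h ≠ χ 1) :
    (Nat.card H : ℝ) * (classInner (fun h : H => χ h) (fun _ => 1)).re ^ 2 < (χ 1).re ^ 2 := by
  classical
  let N := Subgroup.normalizer (H : Set G)
  let K := H.subgroupOf N
  have : Fintype N := Fintype.ofFinite N
  have : Fintype K := Fintype.ofFinite K
  have hHN : H ≤ N := Subgroup.le_normalizer
  have hZN : Subgroup.center G ≤ N := Subgroup.center_le_normalizer _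
  have hHZ : ∀ h ∈ H, h ≠ 1 → h ∉ Subgroup.center G := fun h hh h1 hz =>
    h1 (Subgroup.mem_bot.1 (hZ ▸ Subgroup.mem_inf.2 ⟨hh, hz⟩))
  obtain ⟨c, hc⟩ := char_inner_nat (char_restrict (irr_isCharacter hχ) H) (char_one (G := H))
  have hc' : classInner (fun h : H => χ h) (fun _ => 1) = c := hc
  obtain ⟨d, hd0, hd⟩ := irr_apply_one hχ
  have hKH : Nat.card K = Nat.card H := Nat.card_congr (Subgroup.subgroupOfEquivOfLe hHN).toEquiv
  have hsum : ∀ f : G → ℂ, ∑ k : K, f ((k : N) : G) = ∑ h : H, f h := fun f =>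
    Fintype.sum_equiv (Subgroup.subgroupOfEquivOfLe hHN).toEquiv _ _ (fun _ => rfl)
  obtain ⟨β, hβ, hle⟩ := exists_average K (char_restrict (irr_isCharacter hχ) N) (by
    obtain ⟨h, hh, hne⟩ := hker
    exact ⟨⟨h, hHN hh⟩, hh, hne⟩)
  -- the three parts of `N`
  let Z : N → Prop := fun x => (x : G) ∈ Subgroup.center G
  let T : N → Prop := fun x => ∃ h ∈ H, h ≠ 1 ∧ h * x = x * h
  have hH0 := natCard_cast_ne_zero H
  have hR : ∀ x : N, ¬ T x → β x = χ x := by
    intro x hx
    have h1 := hβ x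
    have h2 : ∀ k : K, χ ((k * x : N) : G) = χ x := by
      intro k
      obtain ⟨y, -, hy⟩ := exists_eq_comm K (g := x) (fun h hh hc => by
        by_contra h1
        exact hx ⟨h, hh, fun h2 => h1 (Subtype.ext h2), congrArg Subtype.val hc⟩) k.2
      rw [← hy, ← irr_isClassFunction hχ x y]
      congr 1
      push_cast
      group
    simp only [h2, Finset.sum_const, Finset.card_univ, nsmul_eq_mul] at h1
    rw [← Nat.card_eq_fintype_card] at h1
    exact (mul_left_cancel₀ (natCard_cast_ne_zero K) h1).symm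
  have hcz : ∀ z ∈ Subgroup.center G, ∃ ω : ℂ, ‖ω‖ = 1 ∧ ∀ y, χ (z * y) = ω * χ y := by
    intro z hz
    have h1 := irr_center_le_charCenter hχ hz
    have h2 := (char_mem_charCenter_iff (irr_isCharacter hχ)).1 h1
    obtain ⟨ω, -, hω⟩ := h1
    refine ⟨ω, ?_, hω⟩
    have h3 := hω 1
    rw [mul_one] at h3
    rw [h3, norm_mul] at h2
    exact mul_right_cancel₀ (norm_ne_zero_iff.2 (irr_apply_one_ne_zero hχ)) (by rw [h2, one_mul])
  have hHZβ : ∀ (h : H) (z : Subgroup.center G),
      ‖β ⟨h * z, N.mul_mem (hHN h.2) (hZN z.2)⟩‖ = c := by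
    intro h z
    obtain ⟨ω, hω, hωz⟩ := hcz z z.2
    have h1 := hβ ⟨h * z, N.mul_mem (hHN h.2) (hZN z.2)⟩
    have h2 : ∑ k : K, χ ((k * (⟨h * z, N.mul_mem (hHN h.2) (hZN z.2)⟩ : N) : N) : G) =
        ω * (Nat.card H * c) := by
      rw [← hc', classInner_one_right, ← mul_assoc (Nat.card H : ℂ), mul_inv_cancel₀ hH0, one_mul,
        Finset.mul_sum]
      have h3 := hsum (fun y => χ (y * (h * z)))
      refine h3.trans (Fintype.sum_equiv (Equiv.mulRight h) _ _ fun k => ?_)
      rw [← hωz, ← mul_assoc, Subgroup.mem_center_iff.1 z.2]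
      rfl
    rw [h2, hKH] at h1
    have h4 : β ⟨h * z, N.mul_mem (hHN h.2) (hZN z.2)⟩ = ω * c :=
      mul_left_cancel₀ hH0 (by rw [← h1]; ring)
    rw [h4, norm_mul, hω, one_mul, Complex.norm_natCast]
  obtain ⟨h₀, hh₀, hne₀⟩ := hker
  have hh₁ : h₀ ≠ 1 := fun h => hne₀ (by rw [h])
  have : Fintype (Subgroup.center G) := Fintype.ofFinite _
  -- the norm of `β` on `T`
  have hβT : (Nat.card H : ℝ) * Nat.card (Subgroup.center G) * (c : ℝ) ^ 2 ≤
      ∑ x ∈ Finset.univ.filter T, ‖β x‖ ^ 2 := by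
    let f : H × Subgroup.center G → N := fun p => ⟨p.1 * p.2, N.mul_mem (hHN p.1.2) (hZN p.2.2)⟩
    have hf : Function.Injective f := by
      rintro ⟨a, z⟩ ⟨b, w⟩ hab
      have h1 : (a : G) * z = b * w := congrArg Subtype.val hab
      have h2 : (b : G)⁻¹ * a = w * (z : G)⁻¹ := by
        rw [inv_mul_eq_iff_eq_mul, ← mul_assoc, ← h1, mul_inv_cancel_right]
      have h3 : (b : G)⁻¹ * a = 1 := by
        by_contra h
        exact hHZ _ (H.mul_mem (H.inv_mem b.2) a.2) h
          (h2 ▸ Subgroup.mul_mem _ w.2 (Subgroup.inv_mem _ z.2))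
      have h4 : a = b := Subtype.ext (inv_mul_eq_one.1 h3).symm
      subst h4
      exact Prod.ext rfl (Subtype.ext (mul_left_cancel h1))
    have h1 : ∑ p : H × Subgroup.center G, ‖β (f p)‖ ^ 2 =
        (Nat.card H : ℝ) * Nat.card (Subgroup.center G) * (c : ℝ) ^ 2 := by
      rw [Finset.sum_congr rfl (fun p _ => by rw [hHZβ p.1 p.2]), Finset.sum_const,
        Finset.card_univ, Fintype.card_prod, nsmul_eq_mul, Nat.card_eq_fintype_card,
        Nat.card_eq_fintype_card, Nat.cast_mul]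
    rw [← h1, ← Finset.sum_image (s := Finset.univ) (g := f) (f := fun x => ‖β x‖ ^ 2)
      (fun a _ b _ h => hf h)]
    refine Finset.sum_le_sum_of_subset_of_nonneg (fun x hx => ?_) (fun _ _ _ => by positivity)
    obtain ⟨⟨a, z⟩, -, rfl⟩ := Finset.mem_image.1 hx
    refine Finset.mem_filter.2 ⟨Finset.mem_univ _, h₀, hh₀, hh₁, ?_⟩
    change h₀ * ((a : G) * z) = (a : G) * z * h₀
    rw [← mul_assoc, hab h₀ hh₀ a a.2, mul_assoc, mul_assoc, Subgroup.mem_center_iff.1 z.2 h₀]
  -- the norm of `χ` on `T`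
  have hχZ : ∑ x ∈ (Finset.univ.filter T).filter Z, ‖χ (x : G)‖ ^ 2 ≤
      Nat.card (Subgroup.center G) * (d : ℝ) ^ 2 := by
    have h1 : ∀ x ∈ (Finset.univ.filter T).filter Z, ‖χ (x : G)‖ ^ 2 ≤ (d : ℝ) ^ 2 := by
      intro x _
      have := char_norm_le (irr_isCharacter hχ) x
      rw [hd, Complex.norm_natCast] at this
      gcongr
    refine (Finset.sum_le_card_nsmul _ _ _ h1).trans ?_
    rw [nsmul_eq_mul, Nat.card_eq_fintype_card, ← Finset.card_univ]
    refine mul_le_mul_of_nonneg_right (Nat.cast_le.2 ?_) (by positivity)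
    refine Finset.card_le_card_of_injOn
      (fun x => if h : (x : G) ∈ Subgroup.center G then ⟨_, h⟩ else 1)
      (fun _ _ => Finset.mem_univ _) (fun a ha b hb hab => ?_)
    have ha' : (a : G) ∈ Subgroup.center G := (Finset.mem_filter.1 ha).2
    have hb' : (b : G) ∈ Subgroup.center G := (Finset.mem_filter.1 hb).2
    simp only [dif_pos ha', dif_pos hb', Subtype.mk.injEq] at hab
    exact Subtype.ext hab
  have hχS : ∑ x ∈ (Finset.univ.filter T).filter (fun x => ¬ Z x), ‖χ (x : G)‖ ^ 2 <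
      Nat.card N := by
    rw [← Finset.sum_image (g := fun x : N => (x : G)) (f := fun x => ‖χ x‖ ^ 2)
      (fun a _ b _ h => Subtype.ext h)]
    refine sum_norm_sq_lt_card N _ ?_ ?_ hχ
    · intro h
      obtain ⟨x, hx, hx1⟩ := Finset.mem_image.1 h
      exact (Finset.mem_filter.1 hx).2 (show (x : G) ∈ _ from hx1 ▸ Subgroup.one_mem _)
    · intro g x hx hgx
      obtain ⟨x, hx', rfl⟩ := Finset.mem_image.1 hx
      obtain ⟨y, hy, hyx⟩ := Finset.mem_image.1 hgx
      obtain ⟨hxT, hxZ⟩ := Finset.mem_filter.1 hx'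
      refine hone x hxZ g (Finset.mem_filter.1 hxT).2 ?_
      rw [← hyx]
      exact (Finset.mem_filter.1 (Finset.mem_filter.1 hy).1).2
  have hsplit : ∑ x ∈ Finset.univ.filter (fun x => ¬ T x), ‖β x‖ ^ 2 =
      ∑ x ∈ Finset.univ.filter (fun x => ¬ T x), ‖χ (x : G)‖ ^ 2 :=
    Finset.sum_congr rfl fun x hx => by rw [hR x (Finset.mem_filter.1 hx).2]
  rw [← Finset.sum_filter_add_sum_filter_not Finset.univ T,
    ← Finset.sum_filter_add_sum_filter_not Finset.univ T (fun x : N => ‖χ (x : G)‖ ^ 2),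
    ← Finset.sum_filter_add_sum_filter_not (Finset.univ.filter T) Z
      (fun x : N => ‖χ (x : G)‖ ^ 2), hsplit] at hle
  have hZ0 : (0 : ℝ) < Nat.card (Subgroup.center G) := Nat.cast_pos.2 Nat.card_pos
  rw [hc', hd, Complex.natCast_re, Complex.natCast_re]
  refine lt_of_mul_lt_mul_left (a := (Nat.card (Subgroup.center G) : ℝ)) ?_ hZ0.le
  nlinarith

/-- For an abelian group the norm of a character is at least its degree. -/
theorem re_le_classInner_self_of_comm {H : Type*} [Group H] [Fintype H]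
    (hab : ∀ a b : H, a * b = b * a) {θ : H → ℂ} (hθ : IsCharacter H θ) :
    (θ 1).re ≤ (classInner θ θ).re := by
  obtain ⟨m, hm, hθm⟩ := char_exists_eq_sum hθ
  rw [classInner_self_re_eq_sum (char_isClassFunction hθ)]
  conv_lhs => rw [hθm]
  simp only [Finset.sum_apply, Pi.smul_apply, smul_eq_mul, Complex.re_sum]
  refine Finset.sum_le_sum fun χ _ => ?_
  rw [hm, irr_apply_one_of_comm hab χ.2, mul_one, Complex.natCast_re, Complex.norm_natCast]
  exact_mod_cast Nat.le_self_pow two_ne_zero (m χ)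

/-- Feit–Thompson, second inequality. -/
theorem card_lt_one_add_sq (H : Subgroup G) (hab : ∀ a ∈ H, ∀ b ∈ H, a * b = b * a)
    (hZ : H ⊓ Subgroup.center G = ⊥)
    (hone : ∀ x : G, x ∉ Subgroup.center G → ∀ g : G, (∃ h ∈ H, h ≠ 1 ∧ h * x = x * h) →
      (∃ h ∈ H, h ≠ 1 ∧ h * (g * x * g⁻¹) = (g * x * g⁻¹) * h) →
      g ∈ Subgroup.normalizer (H : Set G))
    (hM : ∀ M : Subgroup G, M.Normal → H ≤ M → M = ⊤)
    {χ : G → ℂ} (hχ : IsIrrCharacter G χ) (h1 : χ 1 ≠ 1) :
    (Nat.card H : ℝ) < (1 + (χ 1).re) ^ 2 := by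
  classical
  have : Fintype H := Fintype.ofFinite H
  obtain ⟨d, hd0, hd⟩ := irr_apply_one hχ
  have hd1 : 1 < d := by
    rcases Nat.lt_or_ge 1 d with h | h
    · exact h
    · exact (h1 (by rw [hd, le_antisymm h hd0, Nat.cast_one])).elim
  have hH0 : (0 : ℝ) < Nat.card H := Nat.cast_pos.2 Nat.card_pos
  obtain ⟨s, hs0, hs⟩ : ∃ s : ℝ, 0 < s ∧ s ^ 2 = Nat.card H :=
    ⟨√(Nat.card H), Real.sqrt_pos.2 hH0, Real.sq_sqrt hH0.le⟩
  -- every non-principal irreducible character satisfies the first inequality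
  have key : ∀ ψ : G → ℂ, IsIrrCharacter G ψ → ψ ≠ (fun _ => 1) →
      s * (classInner (fun h : H => ψ h) (fun _ => 1)).re < (ψ 1).re := by
    intro ψ hψ hne
    have hk : ∃ h ∈ H, ψ h ≠ ψ 1 := by
      by_contra hcon
      push Not at hcon
      refine hne (irr_eq_one_of_charKer_eq_top hψ (hM _ (charKer_normal (irr_isClassFunction hψ))
        fun h hh => (char_mem_charKer_iff (irr_isCharacter hψ)).2 (hcon h hh)))
    have h2 := card_mul_sq_lt H hab hZ hone hψ hk
    rw [← hs, ← mul_pow] at h2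
    obtain ⟨e, he0, he⟩ := irr_apply_one hψ
    refine lt_of_pow_lt_pow_left₀ 2 ?_ h2
    rw [he, Complex.natCast_re]; positivity
  have hθ : IsCharacter G (χ * (fun g => conj (χ g)) - fun _ => 1) := by
    refine char_sub_irr (char_mul (irr_isCharacter hχ) (char_conj (irr_isCharacter hχ))) irr_one ?_
    rw [classInner_mul_left]
    simp [irr_inner_self hχ]
  set θ : G → ℂ := χ * (fun g => conj (χ g)) - fun _ => 1 with hθdef
  have hθ1 : θ 1 = (d : ℂ) ^ 2 - 1 := by simp [hθdef, hd, sq]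
  have hθi : classInner θ (fun _ => 1) = 0 := by
    rw [hθdef, classInner_sub_left, classInner_mul_left, classInner_one_one]
    simp [irr_inner_self hχ]
  have hθH : classInner (fun h : H => θ h) (fun _ => 1) =
      classInner (fun h : H => χ h) (fun h : H => χ h) - 1 := by
    have : (fun h : H => θ h) =
        (fun h : H => χ h) * (fun h : H => conj (χ h)) - fun _ => 1 := rfl
    rw [this, classInner_sub_left, classInner_mul_left, classInner_one_one]
    simp
  obtain ⟨m, hm, hθm⟩ := char_exists_eq_sum hθ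
  have hlt : s * (classInner (fun h : H => θ h) (fun _ => 1)).re < (θ 1).re := by
    have e1 : (fun h : H => θ h) =
        ∑ ψ : IrrCharacter G, (m ψ : ℂ) • (fun h : H => ψ.1 h) := by
      funext h
      conv_lhs => rw [hθm]
      simp [Finset.sum_apply]
    have e2 : (θ 1).re = ∑ ψ : IrrCharacter G, (m ψ : ℝ) * (ψ.1 1).re := by
      conv_lhs => rw [hθm]
      simp [Finset.sum_apply]
    have hne : ∀ ψ : IrrCharacter G, m ψ ≠ 0 → ψ.1 ≠ fun _ => 1 := by
      intro ψ hψ h
      refine hψ ?_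
      have := hm ψ
      rw [h, hθi] at this
      exact_mod_cast this.symm
    rw [e1, e2, classInner_sum_left, Complex.re_sum, Finset.mul_sum]
    simp only [classInner_smul_left, Complex.mul_re, Complex.natCast_re, Complex.natCast_im,
      zero_mul, sub_zero]
    have hle : ∀ ψ : IrrCharacter G, m ψ ≠ 0 →
        s * ((m ψ : ℝ) * (classInner (fun h : H => ψ.1 h) (fun _ => 1)).re) <
          (m ψ : ℝ) * (ψ.1 1).re := by
      intro ψ hψ
      rw [mul_left_comm]
      exact mul_lt_mul_of_pos_left (key ψ.1 ψ.2 (hne ψ hψ))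
        (Nat.cast_pos.2 (Nat.pos_of_ne_zero hψ))
    refine Finset.sum_lt_sum (fun ψ _ => ?_) ?_
    · by_cases h : m ψ = 0
      · simp [h]
      · exact (hle ψ h).le
    · by_contra hcon
      have h0 : ∀ ψ, m ψ = 0 := fun ψ => by
        by_contra h
        exact hcon ⟨ψ, Finset.mem_univ _, hle ψ h⟩
      have h3 : (θ 1).re = 0 := by rw [e2]; simp [h0]
      rw [hθ1] at h3
      have h4 : (d : ℝ) ^ 2 - 1 = 0 := by simpa [sq] using h3
      have h5 : (1 : ℝ) < d := by exact_mod_cast hd1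
      nlinarith
  have hge := re_le_classInner_self_of_comm (H := H) (fun a b => Subtype.ext (hab a a.2 b b.2))
    (char_restrict (irr_isCharacter hχ) H)
  have h6 : (θ 1).re = (d : ℝ) ^ 2 - 1 := by rw [hθ1]; simp [sq]
  rw [hθH, h6, Complex.sub_re, Complex.one_re] at hlt
  have h7 : (d : ℝ) ≤ (classInner (fun h : H => χ h) (fun h : H => χ h)).re := by
    simpa [hd] using hge
  have h5 : (1 : ℝ) < d := by exact_mod_cast hd1
  have h8 : s * (d - 1) < (d + 1) * (d - 1) := by nlinarith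
  have h9 : s < d + 1 := lt_of_mul_lt_mul_right h8 (by linarith)
  rw [hd, Complex.natCast_re, ← hs]
  nlinarith

end CL.FTB
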