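import Cfsg.Agent.Base

/-!
# Generalized quaternion (dicyclic) subgroups given by generators inside an ambient group

`CL.BS.QuatData S m a x` says that the subgroup `S` is dicyclic of order `4 * m` with
generators `a` (of order `2 * m`) and `x` (inverting `a`, with `x ^ 2 = a ^ m`).
-/

namespace CL.BS

open Subgroup

variable {G : Type*} [Group G]

/-- In a cyclic group an element whose order divides the order of `v` is a power of `v`. -/
theorem mem_zpowers_of_orderOf_dvd [Finite G] {g u v : G} (hu : u ∈ zpowers g)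
    (hv : v ∈ zpowers g) (h : orderOf u ∣ orderOf v) : u ∈ zpowers v := by
  obtain ⟨i, rfl⟩ := mem_powers_iff_mem_zpowers.2 hu
  obtain ⟨j, rfl⟩ := mem_powers_iff_mem_zpowers.2 hv
  simp only at h ⊢
  have hn : 0 < orderOf g := orderOf_pos g
  set n := orderOf g with hndef
  have h1 : (g ^ i) ^ orderOf (g ^ j) = 1 := orderOf_dvd_iff_pow_eq_one.1 h
  rw [orderOf_pow, ← pow_mul, ← orderOf_dvd_iff_pow_eq_one, ← hndef] at h1
  have hd : Nat.gcd n j ∣ n := Nat.gcd_dvd_left _ _
  have hdpos : 0 < n / Nat.gcd n j := Nat.div_pos (Nat.le_of_dvd hn hd) (Nat.gcd_pos_of_pos_left _ hn)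
  have h2 : Nat.gcd n j ∣ i := by
    have : Nat.gcd n j * (n / Nat.gcd n j) ∣ i * (n / Nat.gcd n j) := by
      rwa [Nat.mul_div_cancel' hd]
    exact Nat.dvd_of_mul_dvd_mul_right hdpos this
  obtain ⟨k, rfl⟩ := h2
  rw [pow_mul]
  apply Subgroup.pow_mem
  have := Nat.gcd_eq_gcd_ab n j
  rw [← zpow_natCast g (Nat.gcd n j), this, zpow_add, zpow_mul, zpow_natCast, hndef, pow_orderOf_eq_one,
    one_zpow, one_mul, zpow_mul, zpow_natCast]
  exact zpow_mem_zpowers _ _

/-- Two subgroups of a finite cyclic group are comparable according to their orders. -/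
theorem le_of_card_dvd_of_le_zpowers [Finite G] {g : G} {U V : Subgroup G} (hU : U ≤ zpowers g)
    (hV : V ≤ zpowers g) (h : Nat.card U ∣ Nat.card V) : U ≤ V := by
  obtain ⟨i, rfl⟩ := (le_zpowers_iff g U).1 hU
  obtain ⟨j, rfl⟩ := (le_zpowers_iff g V).1 hV
  rw [Nat.card_zpowers, Nat.card_zpowers] at h
  rw [zpowers_le]
  exact mem_zpowers_of_orderOf_dvd (npow_mem_zpowers g i) (npow_mem_zpowers g j) h

/-- `S` is dicyclic of order `4 * m`, generated by `a` and `x`. -/
structure QuatData (S : Subgroup G) (m : ℕ) (a x : G) : Prop where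
  m_pos : 0 < m
  a_mem : a ∈ S
  x_mem : x ∈ S
  orderOf_a : orderOf a = 2 * m
  x_sq : x ^ 2 = a ^ m
  conj : x * a * x⁻¹ = a⁻¹
  x_not_mem : x ∉ zpowers a
  mem_cases : ∀ s ∈ S, s ∈ zpowers a ∨ ∃ b ∈ zpowers a, s = x * b
  card : Nat.card S = 4 * m

theorem exists_quatData (S : Subgroup G) {m : ℕ} (hm : 0 < m) (e : S ≃* QuaternionGroup m) :
    ∃ a x : G, QuatData S m a x := by
  have : NeZero m := ⟨hm.ne'⟩
  let f : QuaternionGroup m →* G := S.subtype.comp e.symm.toMonoidHom
  have hf : Function.Injective f := S.subtype_injective.comp e.symm.injective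
  have hfS : ∀ q, f q ∈ S := fun q => (e.symm q).2
  have hsurj : ∀ s ∈ S, ∃ q, f q = s := fun s hs => ⟨e ⟨s, hs⟩, by simp [f]⟩
  have ha : ∀ i : ZMod (2 * m), f (QuaternionGroup.a i) ∈ zpowers (f (QuaternionGroup.a 1)) := by
    intro i
    rw [← ZMod.natCast_zmod_val i, ← QuaternionGroup.a_one_pow, map_pow]
    exact npow_mem_zpowers _ _
  refine ⟨f (QuaternionGroup.a 1), f (QuaternionGroup.xa 0), hm, hfS _, hfS _, ?_, ?_, ?_, ?_,
    ?_, ?_⟩
  · rw [orderOf_injective f hf, QuaternionGroup.orderOf_a_one]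
  · rw [← map_pow, ← map_pow, QuaternionGroup.xa_sq, QuaternionGroup.a_one_pow]
  · rw [mul_inv_eq_iff_eq_mul, eq_inv_mul_iff_mul_eq, ← map_mul, ← map_mul]
    congr 1
    simp
  · intro h
    obtain ⟨k, hk⟩ := (isOfFinOrder_of_finite (QuaternionGroup.a (1 : ZMod (2 * m)))
      |>.mem_powers_iff_mem_zpowers (y := QuaternionGroup.xa 0)).2 (by
        obtain ⟨k, hk⟩ := mem_zpowers_iff.1 h
        rw [← map_zpow] at hk
        exact mem_zpowers_iff.2 ⟨k, hf hk⟩)
    simp at hk
  · intro s hs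
    obtain ⟨q, rfl⟩ := hsurj s hs
    rcases q with i | i
    · exact Or.inl (ha i)
    · refine Or.inr ⟨_, ha i, ?_⟩
      rw [← map_mul]
      simp
  · rw [Nat.card_congr e.toEquiv, Nat.card_eq_fintype_card, QuaternionGroup.card]

namespace QuatData

variable {S : Subgroup G} {m : ℕ} {a x : G} (h : QuatData S m a x)
include h

theorem zpowers_le : zpowers a ≤ S := by
  rw [Subgroup.zpowers_le]; exact h.a_mem

theorem conj_zpowers {b : G} (hb : b ∈ zpowers a) : x * b * x⁻¹ = b⁻¹ := by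
  obtain ⟨k, rfl⟩ := mem_zpowers_iff.1 hb
  rw [← conj_zpow, h.conj, inv_zpow]

theorem conj_zpowers' {b : G} (hb : b ∈ zpowers a) : x⁻¹ * b * x = b⁻¹ := by
  have := h.conj_zpowers (inv_mem hb)
  rw [inv_inv] at this
  nth_rewrite 1 [← this]; group

theorem a_pow_two_mul : a ^ (2 * m) = 1 := by
  rw [← h.orderOf_a, pow_orderOf_eq_one]

theorem orderOf_a_pow_m : orderOf (a ^ m) = 2 := by
  have hm := h.m_pos
  rw [orderOf_pow_of_dvd hm.ne' (by rw [h.orderOf_a]; exact Dvd.intro_left 2 rfl), h.orderOf_a,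
    Nat.mul_div_cancel _ hm]

theorem a_pow_m_ne_one : a ^ m ≠ 1 := by
  intro h1
  have := h.orderOf_a_pow_m
  rw [h1, orderOf_one] at this
  omega

theorem orderOf_a_sq : orderOf (a ^ 2) = m := by
  rw [orderOf_pow_of_dvd two_ne_zero (by rw [h.orderOf_a]; exact Dvd.intro m rfl), h.orderOf_a,
    Nat.mul_div_cancel_left _ two_pos]

theorem x_mul_sq {b : G} (hb : b ∈ zpowers a) : (x * b) ^ 2 = a ^ m := by
  have h1 := h.conj_zpowers' hb
  rw [← h.x_sq]
  calc (x * b) ^ 2 = x * x * ((x⁻¹ * b * x) * b) := by rw [sq]; group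
    _ = x ^ 2 := by rw [h1, sq]; group

theorem x_mul_not_mem {b : G} (hb : b ∈ zpowers a) : x * b ∉ zpowers a := by
  intro h1
  apply h.x_not_mem
  have := mul_mem h1 (inv_mem hb)
  rwa [mul_inv_cancel_right] at this

theorem orderOf_x_mul {b : G} (hb : b ∈ zpowers a) : orderOf (x * b) = 4 := by
  have : Fact (Nat.Prime 2) := ⟨Nat.prime_two⟩
  change _ = 2 ^ (1 + 1)
  apply orderOf_eq_prime_pow
  · rw [pow_one, h.x_mul_sq hb]; exact h.a_pow_m_ne_one
  · change (x * b) ^ (2 * 2) = 1
    rw [pow_mul, h.x_mul_sq hb, ← pow_mul, mul_comm, h.a_pow_two_mul]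

theorem orderOf_x : orderOf x = 4 := by
  simpa using h.orderOf_x_mul (one_mem _)

/-- `a ^ m` is the only involution of `S`. -/
theorem eq_of_orderOf_eq_two [Finite G] {t : G} (ht : t ∈ S) (ho : orderOf t = 2) :
    t = a ^ m := by
  rcases h.mem_cases t ht with h1 | ⟨b, hb, rfl⟩
  · have h2 : t ∈ zpowers (a ^ m) :=
      mem_zpowers_of_orderOf_dvd h1 (npow_mem_zpowers a m) (by rw [ho, h.orderOf_a_pow_m])
    classical
    rw [mem_zpowers_iff_mem_range_orderOf, h.orderOf_a_pow_m] at h2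
    simp only [Finset.mem_image, Finset.mem_range] at h2
    obtain ⟨k, hk, rfl⟩ := h2
    interval_cases k
    · simp at ho
    · simp
  · rw [h.orderOf_x_mul hb] at ho
    omega

theorem a_pow_m_comm {s : G} (hs : s ∈ S) : s * a ^ m = a ^ m * s := by
  have h1 : ∀ b ∈ zpowers a, b * a ^ m = a ^ m * b := by
    intro b hb
    obtain ⟨k, rfl⟩ := mem_zpowers_iff.1 hb
    exact ((Commute.refl a).zpow_left k |>.pow_right m).eq
  rcases h.mem_cases s hs with h2 | ⟨b, hb, rfl⟩
  · exact h1 s h2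
  · rw [mul_assoc, h1 b hb, ← mul_assoc, ← mul_assoc, ← h.x_sq]
    congr 1
    group

/-- Conjugating a power of `a` by an element of `S` fixes or inverts it. -/
theorem conj_eq_or {s b : G} (hs : s ∈ S) (hb : b ∈ zpowers a) :
    s * b * s⁻¹ = b ∨ s * b * s⁻¹ = b⁻¹ := by
  have h1 : ∀ c ∈ zpowers a, c * b * c⁻¹ = b := by
    intro c hc
    obtain ⟨k, rfl⟩ := mem_zpowers_iff.1 hb
    obtain ⟨l, rfl⟩ := mem_zpowers_iff.1 hc
    rw [((Commute.refl a).zpow_zpow l k).eq, mul_inv_cancel_right]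
  rcases h.mem_cases s hs with h2 | ⟨c, hc, rfl⟩
  · exact Or.inl (h1 s h2)
  · right
    rw [← h.conj_zpowers hb]
    conv_rhs => rw [← h1 c hc]
    group

/-- Every subgroup of `⟨a⟩` is normalized by `S`. -/
theorem le_normalizer {U : Subgroup G} (hU : U ≤ zpowers a) : S ≤ normalizer (U : Set G) := by
  intro s hs
  rw [mem_normalizer_iff]
  intro b
  constructor
  · intro hb
    rcases h.conj_eq_or hs (hU hb) with h1 | h1 <;> rw [h1]
    exacts [hb, inv_mem hb]
  · intro hb
    rcases h.conj_eq_or (inv_mem hs) (hU hb) with h1 | h1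
    · have : b = s * b * s⁻¹ := by rw [← h1]; group
      rw [this]; exact hb
    · have : b = (s * b * s⁻¹)⁻¹ := by rw [← h1]; group
      rw [this]; exact inv_mem hb

theorem commutator_eq : ⁅S, S⁆ = zpowers (a ^ 2) := by
  apply le_antisymm
  · rw [commutator_le]
    have hsq : ∀ b ∈ zpowers a, b * b ∈ zpowers (a ^ 2) := by
      intro b hb
      obtain ⟨k, rfl⟩ := mem_zpowers_iff.1 hb
      refine mem_zpowers_iff.2 ⟨k, ?_⟩
      rw [← zpow_natCast, ← zpow_mul, ← zpow_add]; congr 1; push_cast; ring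
    have key : ∀ s ∈ S, ∀ b ∈ zpowers a, s * b * s⁻¹ * b⁻¹ ∈ zpowers (a ^ 2) := by
      intro s hs b hb
      rcases h.conj_eq_or hs hb with h1 | h1 <;> rw [h1]
      · simp
      · exact hsq _ (inv_mem hb)
    intro s hs t ht
    rw [commutatorElement_def]
    rcases h.mem_cases t ht with h1 | ⟨c, hc, rfl⟩
    · exact key s hs t h1
    · rcases h.mem_cases s hs with h2 | ⟨b, hb, rfl⟩
      · have := inv_mem (key _ ht s h2)
        convert this using 1
        group
      · have h3 := h.conj_zpowers' hb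
        have h4 := h.conj_zpowers' hc
        have h5 : b * c = c * b := by
          obtain ⟨k, rfl⟩ := mem_zpowers_iff.1 hb
          obtain ⟨l, rfl⟩ := mem_zpowers_iff.1 hc
          exact ((Commute.refl a).zpow_zpow k l).eq
        have h6 := h.conj_zpowers (inv_mem hc)
        have h7 := h.conj_zpowers (mul_mem hc (inv_mem hb))
        have h8 : x * b * (x * c) * (x * b)⁻¹ * (x * c)⁻¹ =
            x * (b * (x * (c * b⁻¹) * x⁻¹) * c⁻¹) * x⁻¹ := by group
        have h9 : b * (c * b⁻¹)⁻¹ * c⁻¹ = (b * c⁻¹) * (b * c⁻¹) := by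
          have : c⁻¹ * b = b * c⁻¹ := by
            rw [inv_mul_eq_iff_eq_mul, ← mul_assoc, ← h5, mul_inv_cancel_right]
          rw [mul_inv_rev, inv_inv]
          simp only [mul_assoc]
          rw [← mul_assoc c⁻¹ b, this, mul_assoc]
        have h10 := hsq _ (mul_mem hb (inv_mem hc))
        have h11 : b * c⁻¹ * (b * c⁻¹) ∈ zpowers a :=
          mul_mem (mul_mem hb (inv_mem hc)) (mul_mem hb (inv_mem hc))
        rw [h8, h7, h9, h.conj_zpowers h11]
        exact inv_mem h10
  · rw [Subgroup.zpowers_le]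
    have := commutator_mem_commutator h.a_mem h.x_mem
    rw [commutatorElement_def] at this
    convert this using 1
    have h1 := h.conj_zpowers (inv_mem (mem_zpowers a))
    rw [sq, mul_assoc, mul_assoc, ← mul_assoc x, h1, inv_inv]

/-- If `b ∈ ⟨a⟩` is not inverted by itself, its centralizer in `S` is `⟨a⟩`. -/
theorem mem_zpowers_of_commute {s b : G} (hs : s ∈ S) (hb : b ∈ zpowers a) (hb2 : b ^ 2 ≠ 1)
    (hc : b * s = s * b) : s ∈ zpowers a := by
  rcases h.mem_cases s hs with h1 | ⟨c, hc', rfl⟩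
  · exact h1
  · exfalso
    apply hb2
    have h5 : b * c = c * b := by
      obtain ⟨k, rfl⟩ := mem_zpowers_iff.1 hb
      obtain ⟨l, rfl⟩ := mem_zpowers_iff.1 hc'
      exact ((Commute.refl a).zpow_zpow k l).eq
    have h6 : b * x = x * b := by
      rw [mul_assoc, ← h5, ← mul_assoc, ← mul_assoc] at hc
      exact mul_right_cancel hc
    have h7 := h.conj_zpowers hb
    rw [← h6, mul_inv_cancel_right] at h7
    rw [sq]
    nth_rewrite 1 [h7]
    simp

/-- An element of `S` commuting with `a` and `x` is `1` or the involution (for `m ≥ 2`). -/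
theorem eq_of_central [Finite G] (hm : 2 ≤ m) {z : G} (hz : z ∈ S) (hza : a * z = z * a)
    (hzx : x * z = z * x) : z = 1 ∨ z = a ^ m := by
  have h1 : z ∈ zpowers a := by
    refine h.mem_zpowers_of_commute hz (mem_zpowers a) ?_ hza
    intro h2
    have := orderOf_dvd_of_pow_eq_one h2
    rw [h.orderOf_a] at this
    have := Nat.le_of_dvd two_pos this
    omega
  have h2 := h.conj_zpowers h1
  rw [hzx, mul_inv_cancel_right] at h2
  by_cases h3 : z = 1
  · exact Or.inl h3
  · right
    apply h.eq_of_orderOf_eq_two hz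
    have : Fact (Nat.Prime 2) := ⟨Nat.prime_two⟩
    apply orderOf_eq_prime _ h3
    rw [sq]
    nth_rewrite 1 [h2]
    simp

theorem relIndex_zpowers [Finite G] : (zpowers a).relIndex S = 2 := by
  have h1 := card_mul_index ((zpowers a).subgroupOf S)
  rw [Nat.card_congr (subgroupOfEquivOfLe h.zpowers_le).toEquiv, Nat.card_zpowers, h.orderOf_a,
    h.card] at h1
  have hm := h.m_pos
  change ((zpowers a).subgroupOf S).index = 2
  nlinarith

end QuatData

end CL.BS
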