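import Cfsg.Agent.BS.Quat

/-!
# Groups with a cyclic or generalized quaternion Sylow 2-subgroup: local structure
-/

namespace CL.BS

open Subgroup

variable {G : Type*} [Group G]

/-- Every `p`-subgroup of a finite group is conjugate into a given Sylow `p`-subgroup. -/
theorem exists_conj_mem_sylow [Finite G] {p : ℕ} [Fact p.Prime] (S : Sylow p G) {Q : Subgroup G}
    (hQ : IsPGroup p Q) : ∃ g : G, ∀ q ∈ Q, g * q * g⁻¹ ∈ S := by
  obtain ⟨P, hP⟩ := hQ.exists_le_sylow
  obtain ⟨g, rfl⟩ := MulAction.exists_smul_eq G P S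
  refine ⟨g, fun q hq => ?_⟩
  change g * q * g⁻¹ ∈ ((g • P : Sylow p G) : Subgroup G)
  rw [Sylow.coe_subgroup_smul]
  exact smul_mem_pointwise_smul _ (MulAut.conj g) _ (hP hq)

theorem isPGroup_zpowers_of_orderOf {p k : ℕ} {u : G} (hu : orderOf u = p ^ k) :
    IsPGroup p (zpowers u) :=
  IsPGroup.of_card (n := k) (by rw [Nat.card_zpowers, hu])

theorem orderOf_conj' (g y : G) : orderOf (g * y * g⁻¹) = orderOf y :=
  (MulAut.conj g).orderOf_eq y

/-- A finite group with a cyclic Sylow 2-subgroup `P` maps to `P` with kernel the set of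
elements of odd order, which is a complement to `P`. -/
theorem exists_hom_of_isCyclic_sylow [Finite G] (P : Sylow 2 G) (hP : IsCyclic P) :
    ∃ τ : G →* P, τ.ker.IsComplement' P ∧ ∀ g : G, g ∈ τ.ker ↔ Odd (orderOf g) := by
  have : Fact (Nat.Prime 2) := ⟨Nat.prime_two⟩
  have key : ∃ τ : G →* P, τ.ker.IsComplement' P := by
    by_cases h2 : 2 ∣ Nat.card G
    · have hmin : (Nat.card G).minFac = 2 := (Nat.minFac_eq_two_iff _).2 h2
      exact ⟨_, hP.isComplement' hmin⟩
    · refine ⟨1, ?_⟩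
      have hbot : (P : Subgroup G) = ⊥ := by
        rw [← card_eq_one]
        exact P.2.card_eq_or_dvd.resolve_right fun h => h2 (h.trans (card_subgroup_dvd_card _))
      rw [MonoidHom.ker_one, hbot]
      exact isComplement'_top_bot
  obtain ⟨τ, hτ⟩ := key
  refine ⟨τ, hτ, fun g => ⟨fun hg => ?_, fun hg => ?_⟩⟩
  · have h1 : orderOf g ∣ Nat.card τ.ker := orderOf_dvd_natCard (⟨g, hg⟩ : τ.ker) |>
      (by rwa [Subgroup.orderOf_mk] at ·)
    rw [← hτ.index_eq_card] at h1
    rw [← Nat.not_even_iff_odd, even_iff_two_dvd]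
    exact fun h => P.not_dvd_index (h.trans h1)
  · rw [MonoidHom.mem_ker, ← orderOf_eq_one_iff]
    have h1 : orderOf (τ g) ∣ orderOf g := orderOf_map_dvd τ g
    have h2 : (orderOf (τ g)).Coprime (orderOf g) :=
      P.2.orderOf_coprime (Nat.coprime_two_left.2 hg) _
    exact Nat.eq_one_of_dvd_coprimes h2 dvd_rfl h1

/-- A linear character of order 4 attached to a cyclic Sylow 2-subgroup of order at least 4. -/
theorem exists_linear_of_isCyclic_sylow [Finite G] (P : Sylow 2 G) {a : G} {k : ℕ}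
    (hP : (P : Subgroup G) = zpowers a) (ha : orderOf a = 2 ^ (k + 2)) :
    ∃ lam : G →* ℂˣ, (lam a : ℂ) = Complex.I ∧ ∀ y, lam y ≠ 1 → 2 ^ (k + 1) ∣ orderOf y := by
  have hc : IsCyclic P := by
    rw [hP]; infer_instance
  obtain ⟨τ, hτ, -⟩ := exists_hom_of_isCyclic_sylow P hc
  have haP : a ∈ (P : Subgroup G) := hP ▸ mem_zpowers a
  have hinj : Function.Injective (τ.comp (P : Subgroup G).subtype) := by
    rw [injective_iff_map_eq_one]
    intro u hu
    have : (u : G) ∈ τ.ker ⊓ (P : Subgroup G) := ⟨hu, u.2⟩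
    rw [hτ.disjoint.eq_bot, mem_bot] at this
    exact Subtype.ext this
  have ho : orderOf (τ a) = 2 ^ (k + 2) := by
    have := orderOf_injective _ hinj ⟨a, haP⟩
    rw [Subgroup.orderOf_mk a haP, ha] at this
    exact this
  have hcard : Nat.card P = 2 ^ (k + 2) := by
    rw [hP, Nat.card_zpowers, ha]
  have hgen : ∀ u : P, u ∈ zpowers (τ a) := by
    have : zpowers (τ a) = ⊤ := by
      apply eq_top_of_card_eq
      rw [Nat.card_zpowers, ho, hcard]
    intro u; rw [this]; trivial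
  let i : ℂˣ := Units.mk0 Complex.I Complex.I_ne_zero
  have hi4 : i ^ 4 = 1 := by ext; simp [i]
  have hi : orderOf i ∣ orderOf (τ a) := by
    rw [ho]
    exact (orderOf_dvd_of_pow_eq_one hi4).trans ⟨2 ^ k, by ring⟩
  refine ⟨(monoidHomOfForallMemZpowers hgen hi).comp τ, by simp [i], fun y hy => ?_⟩
  refine Dvd.dvd.trans ?_ (orderOf_map_dvd τ y)
  obtain ⟨j, hj⟩ := mem_powers_iff_mem_zpowers.2 (hgen (τ y))
  simp only at hj
  rw [MonoidHom.comp_apply, ← hj, map_pow, monoidHomOfForallMemZpowers_apply_gen] at hy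
  have h4 : ¬ 4 ∣ j := by
    rintro ⟨l, rfl⟩
    exact hy (by rw [pow_mul, hi4, one_pow])
  rw [← hj, orderOf_pow, ho]
  obtain ⟨l, hl, hl2⟩ := (Nat.dvd_prime_pow Nat.prime_two).1 (Nat.gcd_dvd_left (2 ^ (k + 2)) j)
  have hl1 : l ≤ 1 := by
    by_contra hcon
    apply h4
    refine Dvd.dvd.trans ?_ (Nat.gcd_dvd_right (2 ^ (k + 2)) j)
    rw [hl2]
    exact (pow_dvd_pow 2 (show 2 ≤ l by omega))
  rw [hl2, Nat.pow_div hl two_pos]
  exact pow_dvd_pow 2 (by omega)

namespace QuatData

variable [Finite G] {S : Sylow 2 G} {m : ℕ} {a x : G} (h : QuatData (S : Subgroup G) m a x)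
include h

/-- All involutions are conjugate to `a ^ m`. -/
theorem exists_conj_eq_of_orderOf_eq_two {t : G} (ht : orderOf t = 2) :
    ∃ g : G, g * t * g⁻¹ = a ^ m := by
  have : Fact (Nat.Prime 2) := ⟨Nat.prime_two⟩
  obtain ⟨g, hg⟩ := exists_conj_mem_sylow S (isPGroup_zpowers_of_orderOf (k := 1) ht)
  exact ⟨g, h.eq_of_orderOf_eq_two (hg t (mem_zpowers t)) (by rw [orderOf_conj', ht])⟩

theorem isConj_of_orderOf_eq_two {t u : G} (ht : orderOf t = 2) (hu : orderOf u = 2) :
    IsConj t u := by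
  obtain ⟨g, hg⟩ := h.exists_conj_eq_of_orderOf_eq_two ht
  obtain ⟨g', hg'⟩ := h.exists_conj_eq_of_orderOf_eq_two hu
  exact (isConj_iff.2 ⟨g, hg⟩).trans (isConj_iff.2 ⟨g', hg'⟩).symm

/-- Commuting involutions coincide. -/
theorem eq_of_commute {t u : G} (ht : orderOf t = 2) (hu : orderOf u = 2)
    (hc : t * u = u * t) : t = u := by
  have : Fact (Nat.Prime 2) := ⟨Nat.prime_two⟩
  have hQ : IsPGroup 2 (zpowers t ⊔ zpowers u : Subgroup G) := by
    refine (isPGroup_zpowers_of_orderOf (k := 1) ht).to_sup_of_normal_right'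
      (isPGroup_zpowers_of_orderOf (k := 1) hu) ?_
    refine le_trans ?_ (centralizer_le_normalizer _)
    rw [Subgroup.zpowers_le, zpowers_eq_closure, centralizer_closure,
      mem_centralizer_singleton_iff]
    exact hc
  obtain ⟨g, hg⟩ := exists_conj_mem_sylow S hQ
  have h1 := h.eq_of_orderOf_eq_two (hg t (mem_sup_left (mem_zpowers t)))
    (by rw [orderOf_conj', ht])
  have h2 := h.eq_of_orderOf_eq_two (hg u (mem_sup_right (mem_zpowers u)))
    (by rw [orderOf_conj', hu])
  have := h1.trans h2.symm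
  simpa using this

/-- A product of two involutions has odd order. -/
theorem odd_orderOf_mul {t u : G} (ht : orderOf t = 2) (hu : orderOf u = 2) :
    Odd (orderOf (t * u)) := by
  rw [← Nat.not_even_iff_odd]
  rintro ⟨k, hk⟩
  have hpos := orderOf_pos (t * u)
  have hk0 : k ≠ 0 := by omega
  have ht2 : t * t = 1 := by rw [← sq, ← ht, pow_orderOf_eq_one]
  have hu2 : u * u = 1 := by rw [← sq, ← hu, pow_orderOf_eq_one]
  have hz : orderOf ((t * u) ^ k) = 2 := by
    rw [orderOf_pow_of_dvd hk0 (by rw [hk]; exact ⟨2, by ring⟩), hk, ← two_mul,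
      Nat.mul_div_cancel _ (Nat.pos_of_ne_zero hk0)]
  have hz2 : (t * u) ^ k * (t * u) ^ k = 1 := by rw [← pow_add, ← hk, pow_orderOf_eq_one]
  have ht' : t⁻¹ = t := inv_eq_of_mul_eq_one_right ht2
  have hu' : u⁻¹ = u := inv_eq_of_mul_eq_one_right hu2
  have hinv : t * (t * u) * t⁻¹ = (t * u)⁻¹ := by
    rw [mul_inv_rev, ← mul_assoc, ht2, one_mul, hu']
  have hinv' : u * (t * u) * u⁻¹ = (t * u)⁻¹ := by
    rw [mul_inv_rev, ← mul_assoc, mul_inv_cancel_right, hu', ht']
  have h1 : t * (t * u) ^ k = (t * u) ^ k * t := by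
    rw [← mul_inv_eq_iff_eq_mul, ← conj_pow, hinv, inv_pow]
    exact inv_eq_of_mul_eq_one_right hz2
  have h2 : u * (t * u) ^ k = (t * u) ^ k * u := by
    rw [← mul_inv_eq_iff_eq_mul, ← conj_pow, hinv', inv_pow]
    exact inv_eq_of_mul_eq_one_right hz2
  have h3 := (h.eq_of_commute ht hz h1).trans (h.eq_of_commute hu hz h2).symm
  rw [h3, hu2, orderOf_one] at hk
  omega

end QuatData

section Sixteen

variable [Finite G] {S : Sylow 2 G} {n : ℕ} {a x : G}
  (h : QuatData (S : Subgroup G) (2 ^ (n + 2)) a x)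
include h

set_option linter.unusedSectionVars false

omit [Finite G] in
theorem QuatData.a_pow_four_ne_one : (a ^ 2) ^ 2 ≠ 1 := by
  intro h1
  have := orderOf_dvd_of_pow_eq_one h1
  rw [h.orderOf_a_sq] at this
  have h2 := Nat.le_of_dvd two_pos this
  have h3 : 2 ^ 2 ≤ 2 ^ (n + 2) := Nat.pow_le_pow_right two_pos (by omega)
  omega

theorem QuatData.inf_centralizer :
    (S : Subgroup G) ⊓ centralizer (zpowers (a ^ 2) : Set G) = zpowers a := by
  apply le_antisymm
  · rintro s ⟨hs, hc⟩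
    exact h.mem_zpowers_of_commute hs (npow_mem_zpowers a 2) h.a_pow_four_ne_one
      (hc _ (mem_zpowers _))
  · refine le_inf h.zpowers_le ?_
    rw [Subgroup.zpowers_le, zpowers_eq_closure, centralizer_closure,
      mem_centralizer_singleton_iff]
    exact ((Commute.refl a).pow_right 2).eq

theorem QuatData.a_mem_centralizer : a ∈ centralizer (zpowers (a ^ 2) : Set G) :=
  (h.inf_centralizer.ge (mem_zpowers a)).2

theorem QuatData.x_not_mem_centralizer : x ∉ centralizer (zpowers (a ^ 2) : Set G) :=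
  fun hx => h.x_not_mem (h.inf_centralizer.le ⟨h.x_mem, hx⟩)

omit [Finite G] in
theorem QuatData.sylow_le_normalizer :
    (S : Subgroup G) ≤ normalizer (zpowers (a ^ 2) : Set G) :=
  h.le_normalizer (by rw [Subgroup.zpowers_le]; exact npow_mem_zpowers a 2)

/-- `N(D) = C(D) S` elementwise. -/
theorem QuatData.exists_mul_of_mem_normalizer {g : G}
    (hg : g ∈ normalizer (zpowers (a ^ 2) : Set G)) :
    ∃ c ∈ centralizer (zpowers (a ^ 2) : Set G), ∃ s ∈ (S : Subgroup G), g = c * s := by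
  have : Fact (Nat.Prime 2) := ⟨Nat.prime_two⟩
  set D := zpowers (a ^ 2) with hD
  set N := normalizer (D : Set G) with hN
  have hSN : (S : Subgroup G) ≤ N := h.sylow_le_normalizer
  have key := card_dvd_of_injective _ (QuotientGroup.kerLift_injective D.normalizerMonoidHom)
  have hcyc : IsCyclic D := inferInstance
  rw [← index, hcyc.card_mulAut, Nat.card_zpowers, h.orderOf_a_sq,
    Nat.totient_prime_pow Nat.prime_two (by omega)] at key
  have htop : D.normalizerMonoidHom.ker ⊔ (S.subtype hSN : Subgroup N) = ⊤ := by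
    rw [← index_eq_one]
    refine Nat.eq_one_of_dvd_coprimes (a := 2 ^ (n + 2 - 1) * (2 - 1))
      (b := (S.subtype hSN : Subgroup N).index) ?_
      ((index_dvd_of_le le_sup_left).trans key) (index_dvd_of_le le_sup_right)
    simp only [Nat.add_one_sub_one, mul_one]
    apply Nat.Coprime.pow_left
    exact (Nat.Prime.coprime_iff_not_dvd Nat.prime_two).2 (S.subtype hSN).not_dvd_index
  have hmem : (⟨g, hg⟩ : N) ∈ D.normalizerMonoidHom.ker ⊔ (S.subtype hSN : Subgroup N) := by
    rw [htop]; trivial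
  rw [← SetLike.mem_coe, normal_mul] at hmem
  obtain ⟨c, hc, s, hs, hcs⟩ := hmem
  rw [normalizerMonoidHom_ker] at hc
  exact ⟨c, hc, s, hs, (congrArg Subtype.val hcs).symm⟩

omit [Finite G] h in
theorem conj_mem_centralizer_of_mem_normalizer {D : Subgroup G} {g c : G}
    (hg : g ∈ normalizer (D : Set G)) (hc : c ∈ centralizer (D : Set G)) :
    g * c * g⁻¹ ∈ centralizer (D : Set G) := by
  intro d hd
  have h1 := hc _ ((mem_normalizer_iff.1 (inv_mem hg) d).1 hd)
  rw [inv_inv] at h1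
  calc d * (g * c * g⁻¹) = g * (g⁻¹ * d * g * c) * g⁻¹ := by group
    _ = _ := by rw [h1]; group

/-- An element of `N(D)` lies in `C(D)` or in the coset `x C(D)`. -/
theorem QuatData.mem_or_of_mem_normalizer {g : G}
    (hg : g ∈ normalizer (zpowers (a ^ 2) : Set G)) :
    g ∈ centralizer (zpowers (a ^ 2) : Set G) ∨
      x⁻¹ * g ∈ centralizer (zpowers (a ^ 2) : Set G) := by
  obtain ⟨c, hc, s, hs, rfl⟩ := h.exists_mul_of_mem_normalizer hg
  rcases h.mem_cases s hs with h1 | ⟨b, hb, rfl⟩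
  · exact Or.inl (mul_mem hc (h.inf_centralizer.ge h1).2)
  · right
    have := conj_mem_centralizer_of_mem_normalizer (inv_mem (h.sylow_le_normalizer h.x_mem)) hc
    have h2 := mul_mem this (h.inf_centralizer.ge hb).2
    convert h2 using 1
    group

theorem QuatData.relIndex_centralizer :
    (centralizer (zpowers (a ^ 2) : Set G)).relIndex (normalizer (zpowers (a ^ 2) : Set G)) = 2 := by
  rw [relIndex_eq_two_iff_exists_notMem_and']
  refine ⟨x⁻¹, inv_mem (h.sylow_le_normalizer h.x_mem), ?_, fun b hb => ?_⟩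
  · rw [inv_mem_iff]; exact h.x_not_mem_centralizer
  · exact (h.mem_or_of_mem_normalizer hb).symm

/-- `⟨a⟩` is a Sylow 2-subgroup of `C(D)`. -/
theorem QuatData.exists_sylow_centralizer :
    ∃ P : Sylow 2 (centralizer (zpowers (a ^ 2) : Set G)),
      (P : Subgroup (centralizer (zpowers (a ^ 2) : Set G))) =
        zpowers ⟨a, h.a_mem_centralizer⟩ := by
  have : Fact (Nat.Prime 2) := ⟨Nat.prime_two⟩
  set D := zpowers (a ^ 2) with hD
  set C := centralizer (D : Set G) with hC
  set N := normalizer (D : Set G) with hN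
  have hSN : (S : Subgroup G) ≤ N := h.sylow_le_normalizer
  have hAC : zpowers a ≤ C := h.inf_centralizer.ge.trans inf_le_right
  have hCN : C ≤ N := centralizer_le_normalizer _
  have h1 := relIndex_mul_relIndex _ _ _ hAC hCN
  have h2 := relIndex_mul_relIndex _ _ _ h.zpowers_le hSN
  rw [h.relIndex_centralizer, ← h2, h.relIndex_zpowers, mul_comm] at h1
  have h3 : (zpowers a).relIndex C = (S : Subgroup G).relIndex N := by omega
  have h4 : ¬ 2 ∣ (zpowers a).relIndex C := by
    rw [h3]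
    exact fun h5 => S.not_dvd_index (h5.trans (relIndex_dvd_index_of_le hSN))
  have h5 : (zpowers a).subgroupOf C = zpowers ⟨a, h.a_mem_centralizer⟩ := by
    ext ⟨c, hc⟩
    simp only [mem_subgroupOf, mem_zpowers_iff, Subtype.ext_iff, SubgroupClass.coe_zpow]
  have h6 : IsPGroup 2 ((zpowers a).subgroupOf C) :=
    (S.2.to_le h.zpowers_le).comap_subtype
  exact ⟨h6.toSylow h4, h5⟩

/-- An element of `C(D)` whose order is divisible by `|D|` generates a subgroup containing `D`. -/
theorem QuatData.le_zpowers_of_dvd {y : G} (hy : y ∈ centralizer (zpowers (a ^ 2) : Set G))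
    (hd : 2 ^ (n + 2) ∣ orderOf y) : zpowers (a ^ 2) ≤ zpowers y := by
  have : Fact (Nat.Prime 2) := ⟨Nat.prime_two⟩
  obtain ⟨P, hP⟩ := h.exists_sylow_centralizer
  have hpos := orderOf_pos y
  have hw : orderOf (y ^ (orderOf y / 2 ^ (n + 2))) = 2 ^ (n + 2) :=
    orderOf_pow_orderOf_div hpos.ne' hd
  set w := y ^ (orderOf y / 2 ^ (n + 2)) with hwdef
  have hwC : w ∈ centralizer (zpowers (a ^ 2) : Set G) := pow_mem hy _
  obtain ⟨c, hc⟩ := exists_conj_mem_sylow P
    (isPGroup_zpowers_of_orderOf (u := ⟨w, hwC⟩) (k := n + 2) (by rw [Subgroup.orderOf_mk, hw]))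
  have h1 := hc _ (mem_zpowers _)
  change _ ∈ (P : Subgroup (centralizer (zpowers (a ^ 2) : Set G))) at h1
  rw [hP] at h1
  have h2 : (c : G) * w * (c : G)⁻¹ ∈ zpowers a := by
    obtain ⟨k, hk⟩ := mem_zpowers_iff.1 h1
    exact mem_zpowers_iff.2 ⟨k, by simpa using congrArg Subtype.val hk⟩
  have h3 : a ^ 2 ∈ zpowers ((c : G) * w * (c : G)⁻¹) :=
    mem_zpowers_of_orderOf_dvd (npow_mem_zpowers a 2) h2
      (by rw [orderOf_conj', hw, h.orderOf_a_sq])
  obtain ⟨k, hk⟩ := mem_zpowers_iff.1 h3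
  rw [conj_zpow, mul_inv_eq_iff_eq_mul, c.2 _ (mem_zpowers _), mul_left_cancel_iff] at hk
  rw [Subgroup.zpowers_le, ← hk]
  exact zpow_mem (npow_mem_zpowers y _) k

/-- The trivial intersection property of the set of elements of `C(D)` of order divisible
by `|D|`. -/
theorem QuatData.mem_normalizer_of_conj_mem {g y : G}
    (hy : y ∈ centralizer (zpowers (a ^ 2) : Set G)) (hd : 2 ^ (n + 2) ∣ orderOf y)
    (hg : g * y * g⁻¹ ∈ centralizer (zpowers (a ^ 2) : Set G)) :
    g ∈ normalizer (zpowers (a ^ 2) : Set G) := by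
  have h1 := h.le_zpowers_of_dvd hy hd
  have h2 := h.le_zpowers_of_dvd hg (by rwa [orderOf_conj'])
  have h3 : (zpowers (a ^ 2)).map (MulAut.conj g) ≤ zpowers (g * y * g⁻¹) := by
    refine (map_mono h1).trans ?_
    rw [MonoidHom.map_zpowers]
    rfl
  have h4 : Nat.card ((zpowers (a ^ 2)).map (MulAut.conj g : G →* G)) =
      Nat.card (zpowers (a ^ 2)) := card_map_of_injective (MulAut.conj g).injective
  rw [mem_normalizer_iff_map_conj_eq]
  exact le_antisymm (le_of_card_dvd_of_le_zpowers h3 h2 h4.dvd)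
    (le_of_card_dvd_of_le_zpowers h2 h3 h4.symm.dvd)

/-- The linear character of `C(D)` used in the Brauer–Suzuki argument. -/
theorem QuatData.exists_linear :
    ∃ lam : centralizer (zpowers (a ^ 2) : Set G) →* ℂˣ,
      (lam ⟨a, h.a_mem_centralizer⟩ : ℂ) = Complex.I ∧
        ∀ y, lam y ≠ 1 → 2 ^ (n + 2) ∣ orderOf (y : G) := by
  obtain ⟨P, hP⟩ := h.exists_sylow_centralizer
  obtain ⟨lam, h1, h2⟩ := exists_linear_of_isCyclic_sylow P (k := n + 1) hP
    (by rw [Subgroup.orderOf_mk, h.orderOf_a]; ring)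
  exact ⟨lam, h1, fun y hy => by simpa using h2 y hy⟩

end Sixteen

end CL.BS
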