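import Cfsg.Agent.Char.Basic
import Cfsg.Agent.Char.Induce

/-!
# Character-theoretic tools for involution-counting arguments (Brauer–Suzuki type)
-/

open Cfsg CL.Char
open scoped ComplexConjugate

namespace CL.BS

variable {G : Type*} [Group G]

/-- Value of an induced function at an element whose relevant conjugators lie in two cosets. -/
theorem indFun_apply_of_two_cosets [Fintype G] (C : Subgroup G) {x : G} (hx : x ∉ C)
    {α : C → ℂ} (hα : IsClassFunction C α) (y : C) (hxy : x⁻¹ * y * x ∈ C)
    (H : ∀ (h : G) (hh : h⁻¹ * y * h ∈ C), α ⟨_, hh⟩ ≠ 0 → h ∈ C ∨ x⁻¹ * h ∈ C) :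
    indFun C α y = α y + α ⟨_, hxy⟩ := by
  classical
  have key : ∀ h : G, extendByZero C α (h⁻¹ * y * h) =
      extendByZero C (fun _ => α y) h + extendByZero C (fun _ => α ⟨_, hxy⟩) (x⁻¹ * h) := by
    intro h
    by_cases h1 : h ∈ C
    · have h2 : x⁻¹ * h ∉ C := fun h2 => hx (by
        have := C.mul_mem h1 (C.inv_mem h2)
        simpa using this)
      rw [extendByZero_conj_mem' C hα h1, extendByZero_coe, extendByZero_of_mem C _ h1,
        extendByZero_of_not_mem C _ h2, add_zero]
    · rw [extendByZero_of_not_mem C _ h1, zero_add]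
      by_cases h2 : x⁻¹ * h ∈ C
      · rw [extendByZero_of_mem C _ h2, ← extendByZero_of_mem C α hxy,
          ← extendByZero_conj_mem' C hα h2 (x⁻¹ * y * x)]
        congr 1
        group
      · rw [extendByZero_of_not_mem C _ h2]
        by_cases h3 : h⁻¹ * y * h ∈ C
        · rw [extendByZero_of_mem C _ h3]
          by_contra h4
          exact (H h h3 h4).elim h1 h2
        · exact extendByZero_of_not_mem C _ h3
  rw [indFun_apply]
  simp_rw [key]
  rw [Finset.sum_add_distrib, Fintype.sum_equiv (Equiv.mulLeft x⁻¹)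
    (fun h => extendByZero C (fun _ => α ⟨_, hxy⟩) (x⁻¹ * h))
    (extendByZero C (fun _ => α ⟨_, hxy⟩)) (fun g => rfl), sum_extendByZero,
    sum_extendByZero]
  simp only [Finset.sum_const, Finset.card_univ, nsmul_eq_mul, ← Nat.card_eq_fintype_card]
  have := natCard_cast_ne_zero C
  field_simp

/-- Induction takes generalized characters to generalized characters. -/
theorem gen_indFun' [Fintype G] (C : Subgroup G) {α : C → ℂ} (hα : IsGeneralizedCharacter C α) :
    IsGeneralizedCharacter G (indFun C α) := by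
  classical
  refine gen_of_inner_int (indFun_isClassFunction C α) fun χ hχ => ?_
  rw [classInner_indFun_left C α (irr_isClassFunction hχ)]
  exact gen_inner_int hα (gen_restrict (gen_of_irr hχ) C)

/-- A generalized character of norm 2 is `± χ ± ψ`. -/
theorem gen_norm_two [Fintype G] {η : G → ℂ} (hη : IsGeneralizedCharacter G η)
    (h2 : classInner η η = 2) : ∃ (c d : ℤ) (χ ψ : G → ℂ), (c = 1 ∨ c = -1) ∧ (d = 1 ∨ d = -1) ∧
      IsIrrCharacter G χ ∧ IsIrrCharacter G ψ ∧ χ ≠ ψ ∧ η = (c : ℂ) • χ + (d : ℂ) • ψ := by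
  have hne : η ≠ 0 := by
    rintro rfl
    rw [classInner_zero_left] at h2
    norm_num at h2
  obtain ⟨χ, hχ, hc0⟩ := exists_irr_inner_ne_zero (gen_isClassFunction hη) hne
  obtain ⟨c, hc⟩ := gen_inner_int hη (gen_of_irr hχ)
  have hc' : classInner χ η = c := by rw [← gen_inner_comm hη (gen_of_irr hχ), hc]
  have hgen := gen_sub hη (gen_intCast_smul c (gen_of_irr hχ))
  have hnorm : classInner (η - (c : ℂ) • χ) (η - (c : ℂ) • χ) = ((2 - c ^ 2 : ℤ) : ℂ) := by
    simp only [classInner_sub_left, classInner_sub_right, classInner_smul_left,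
      classInner_smul_right, h2, hc, hc', irr_inner_self hχ, map_intCast]
    push_cast
    ring
  have hnn := classInner_self_re_nonneg (η - (c : ℂ) • χ)
  rw [hnorm, Complex.intCast_re] at hnn
  have hnn' : (0 : ℤ) ≤ 2 - c ^ 2 := by exact_mod_cast hnn
  have hc1 : c ≠ 0 := by rintro rfl; exact hc0 (by rw [hc, Int.cast_zero])
  have hc2 : c = 1 ∨ c = -1 := by
    have h1 : c ≤ 1 := by nlinarith
    have h1 : -1 ≤ c := by nlinarith
    omega
  have hsq : c ^ 2 = 1 := by rcases hc2 with rfl | rfl <;> norm_num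
  rw [hsq] at hnorm
  obtain ⟨d, ψ, hd, hψ, he⟩ := gen_norm_one' hgen (by rw [hnorm]; norm_num)
  refine ⟨c, d, χ, ψ, hc2, hd, hχ, hψ, ?_, by rw [← he]; abel⟩
  rintro rfl
  have := congrArg (fun f => classInner f χ) he
  simp only [classInner_sub_left, classInner_smul_left, irr_inner_self hχ, hc] at this
  rcases hd with rfl | rfl <;> norm_num at this

/-- A generalized character of norm 3 vanishing at the identity and containing the principal
character with multiplicity `-1` has the form `χ₁ - χ₂ - 1`. -/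
theorem gen_norm_three [Fintype G] {θ : G → ℂ} (hθ : IsGeneralizedCharacter G θ)
    (h3 : classInner θ θ = 3) (h1 : classInner θ (fun _ => 1) = -1) (h0 : θ 1 = 0) :
    ∃ χ₁ χ₂ : G → ℂ, IsIrrCharacter G χ₁ ∧ IsIrrCharacter G χ₂ ∧ χ₁ ≠ (fun _ => 1) ∧
      χ₂ ≠ (fun _ => 1) ∧ χ₁ ≠ χ₂ ∧ ∀ g, θ g = χ₁ g - χ₂ g - 1 := by
  have hη := gen_add hθ gen_one
  have h1' : classInner (fun _ => 1) θ = -1 := by rw [← gen_inner_comm hθ gen_one, h1]
  have hn : classInner (θ + fun _ => 1) (θ + fun _ => 1) = 2 := by
    rw [classInner_add_left, classInner_add_right, classInner_add_right, h3, h1, h1',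
      classInner_one_one]
    norm_num
  have hone : classInner (θ + fun _ => 1) (fun _ => 1) = 0 := by
    rw [classInner_add_left, h1, classInner_one_one]; norm_num
  obtain ⟨c, d, χ, ψ, hc, hd, hχ, hψ, hne, he⟩ := gen_norm_two hη hn
  rw [he, classInner_add_left, classInner_smul_left, classInner_smul_left] at hone
  have hχ1 : χ ≠ fun _ => 1 := by
    rintro rfl
    rw [classInner_one_one, irr_inner_one hψ hne.symm] at hone
    rcases hc with rfl | rfl <;> norm_num at hone
  have hψ1 : ψ ≠ fun _ => 1 := by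
    rintro rfl
    rw [classInner_one_one, irr_inner_one hχ hne] at hone
    rcases hd with rfl | rfl <;> norm_num at hone
  have hval : ∀ g, θ g = c * χ g + d * ψ g - 1 := fun g => by
    have := congrFun he g
    simp only [Pi.add_apply, Pi.smul_apply, smul_eq_mul] at this
    rw [← this]; ring
  obtain ⟨m, hm, hm'⟩ := irr_apply_one hχ
  obtain ⟨n, hn, hn'⟩ := irr_apply_one hψ
  have hdeg := hval 1
  rw [h0, hm', hn'] at hdeg
  have hdeg' : (0 : ℤ) = c * m + d * n - 1 := by exact_mod_cast hdeg
  rcases hc with rfl | rfl <;> rcases hd with rfl | rfl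
  · omega
  · exact ⟨χ, ψ, hχ, hψ, hχ1, hψ1, hne, fun g => by rw [hval]; push_cast; ring⟩
  · exact ⟨ψ, χ, hψ, hχ, hψ1, hχ1, hne.symm, fun g => by rw [hval]; push_cast; ring⟩
  · omega

open scoped Classical in
/-- Sum of an irreducible character over products of elements from two conjugacy classes. -/
theorem irr_sum_class_mul_class [Fintype G] {χ : G → ℂ} (hχ : IsIrrCharacter G χ) (a b : G) :
    ∑ x with IsConj a x, ∑ y with IsConj b y, χ (x * y) =
      (Nat.card {x : G // IsConj a x} : ℂ) * (Nat.card {x : G // IsConj b x} : ℂ) *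
        (χ a * χ b / χ 1) := by
  have hcl := irr_isClassFunction hχ
  have hs : ∀ c : G, ∑ x with IsConj c x, χ x = (Nat.card {x : G // IsConj c x} : ℂ) * χ c := by
    intro c
    rw [Finset.sum_congr rfl (g := fun _ => χ c) fun x hx =>
      (classFun_eq_of_isConj hcl (Finset.mem_filter.1 hx).2).symm, Finset.sum_const, nsmul_eq_mul,
      Nat.card_eq_fintype_card, Fintype.card_subtype]
  have hf : IsClassFunction G (fun g => if IsConj a g then (1 : ℂ) else 0) := by
    intro g h
    have : IsConj g (h * g * h⁻¹) := isConj_iff.2 ⟨h, rfl⟩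
    simp only [show IsConj a (h * g * h⁻¹) ↔ IsConj a g from
      ⟨fun h1 => h1.trans this.symm, fun h1 => h1.trans this⟩]
  have h1 : ∀ y, ∑ x with IsConj a x, χ (x * y) =
      (Nat.card {x : G // IsConj a x} : ℂ) * χ a / χ 1 * χ y := by
    intro y
    have := irr_sum_mul_apply_mul hχ hf y
    simp only [ite_mul, one_mul, zero_mul, ← Finset.sum_filter] at this
    rw [this, hs]
  rw [Finset.sum_comm]
  simp_rw [h1]
  rw [← Finset.mul_sum, hs]
  ring

/-- If an irreducible character is trivial on all commutators then it is linear. -/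
theorem irr_apply_one_eq_one_of_commutator [Finite G] {χ : G → ℂ} (hχ : IsIrrCharacter G χ)
    (h : ∀ a b y : G, χ (a * b * a⁻¹ * b⁻¹ * y) = χ y) : χ 1 = 1 := by
  have := Fintype.ofFinite G
  have hcl := irr_isClassFunction hχ
  have h0 := irr_apply_one_ne_zero hχ
  have hG : (Nat.card G : ℂ) ≠ 0 := card_ne_zero
  have h1 : ∀ a, χ a * χ a⁻¹ = χ 1 ^ 2 := by
    intro a
    have h2 := irr_sum_mul_conj hχ a a⁻¹
    have h3 : ∀ x, χ (a * (x * a⁻¹ * x⁻¹)) = χ 1 := fun x => by
      rw [← h a x 1]; congr 1; group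
    simp only [h3, Finset.sum_const, Finset.card_univ, nsmul_eq_mul,
      ← Nat.card_eq_fintype_card] at h2
    field_simp at h2
    rw [← h2]
  have h4 := irr_inner_self hχ
  rw [classInner_char_right _ (irr_isCharacter hχ)] at h4
  simp only [h1, Finset.sum_const, Finset.card_univ, nsmul_eq_mul,
    ← Nat.card_eq_fintype_card] at h4
  rw [← mul_assoc, inv_mul_cancel₀ hG, one_mul] at h4
  obtain ⟨n, -, hn⟩ := irr_apply_one hχ
  rw [hn] at h4 ⊢
  have : n ^ 2 = 1 := by exact_mod_cast h4
  have : n = 1 := by simpa using this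
  simp [this]

/-- An involution at which a character takes its degree lies in the kernel. -/
theorem rep_eq_one_of_sq_eq_one {n : ℕ} (ρ : Representation ℂ G (Fin n → ℂ)) {t : G}
    (ht : t * t = 1) (h : ρ.character t = ρ.character 1) : ρ t = 1 := by
  have hsq : ρ t * ρ t = 1 := by rw [← map_mul, ht, map_one]
  set p : Module.End ℂ (Fin n → ℂ) := (2⁻¹ : ℂ) • (1 - ρ t) with hp
  have hidem : IsIdempotentElem p := by
    unfold IsIdempotentElem
    rw [hp, smul_mul_smul_comm, sub_mul, mul_sub, mul_sub, hsq]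
    simp only [mul_one, one_mul]
    module
  have htr : LinearMap.trace ℂ _ p = 0 := by
    rw [hp, map_smul, map_sub]
    have : LinearMap.trace ℂ (Fin n → ℂ) 1 = ρ.character 1 := by
      simp [Representation.character]
    rw [this, ← h]
    simp [Representation.character]
  have hproj := (LinearMap.IsIdempotentElem.isProj_range _ hidem).trace
  rw [htr] at hproj
  have h0 : Module.finrank ℂ (LinearMap.range p) = 0 := by exact_mod_cast hproj.symm
  rw [Submodule.finrank_eq_zero, LinearMap.range_eq_bot, hp, smul_eq_zero] at h0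
  exact (sub_eq_zero.1 (h0.resolve_left (by norm_num))).symm

end CL.BS
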