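import Cfsg.Agent.BS.QuatSylow
import Cfsg.Agent.BS.Tools

/-!
# The Brauer–Suzuki theorem for generalized quaternion Sylow 2-subgroups of order at least 16
-/

open Cfsg CL.Char Subgroup
open scoped ComplexConjugate

namespace CL.BS

variable {G : Type*} [Group G]

/-- conjugation by `x⁻¹` as an endomorphism of a subgroup normalized by `x` -/
def conjHom (C : Subgroup G) (x : G) (hx : ∀ c ∈ C, x⁻¹ * c * x ∈ C) : C →* C where
  toFun c := ⟨x⁻¹ * c * x, hx c c.2⟩
  map_one' := by ext; simp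
  map_mul' a b := by ext; simp [mul_assoc]

/-- The norm computation for `(λ - 1)^G` when the support of `λ - 1` is a trivial intersection
set whose normalizer contains `C` with index two. -/
theorem exists_pair_of_linear [Fintype G] (C : Subgroup G) {x : G} (hx : x ∉ C)
    (hxC : ∀ c ∈ C, x⁻¹ * c * x ∈ C) (lam : C →* ℂˣ) (h1 : lam ≠ 1)
    (h2 : lam.comp (conjHom C x hxC) ≠ 1) (h3 : lam ≠ lam.comp (conjHom C x hxC))
    (H : ∀ (y : C) (h : G) (hh : h⁻¹ * y * h ∈ C), lam ⟨_, hh⟩ ≠ 1 → h ∈ C ∨ x⁻¹ * h ∈ C) :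
    ∃ χ₁ χ₂ : G → ℂ, IsIrrCharacter G χ₁ ∧ IsIrrCharacter G χ₂ ∧ χ₁ ≠ (fun _ => 1) ∧
      χ₂ ≠ (fun _ => 1) ∧ χ₁ ≠ χ₂ ∧
      (∀ g, χ₁ g - χ₂ g - 1 = indFun C (fun c => (lam c : ℂ) - 1) g) ∧
      ∀ y : C, χ₁ y - χ₂ y - 1 = lam y + lam ⟨x⁻¹ * y * x, hxC y y.2⟩ - 2 := by
  classical
  set l₁ : C → ℂ := fun c => (lam c : ℂ) with hl₁
  set l₂ : C → ℂ := fun c => (lam.comp (conjHom C x hxC) c : ℂ) with hl₂
  have i₁ : IsIrrCharacter C l₁ := irr_unitsHom lam
  have i₂ : IsIrrCharacter C l₂ := irr_unitsHom _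
  have n₁ : l₁ ≠ fun _ => 1 := fun h => h1 (MonoidHom.ext fun c => Units.ext (congrFun h c))
  have n₂ : l₂ ≠ fun _ => 1 := fun h => h2 (MonoidHom.ext fun c => Units.ext (congrFun h c))
  have n₃ : l₁ ≠ l₂ := fun h => h3 (MonoidHom.ext fun c => Units.ext (congrFun h c))
  set α : C → ℂ := l₁ - fun _ => 1 with hα
  have hαgen : IsGeneralizedCharacter C α := gen_sub (gen_of_irr i₁) gen_one
  have hres : ∀ y : C, indFun C α y = lam y + lam ⟨x⁻¹ * y * x, hxC y y.2⟩ - 2 := by
    intro y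
    rw [indFun_apply_of_two_cosets C hx (gen_isClassFunction hαgen) y (hxC y y.2)]
    · simp only [hα, hl₁, Pi.sub_apply]; ring
    · intro h hh hne
      refine H y h hh fun h4 => hne ?_
      simp [hα, hl₁, h4]
  have hres' : (fun y : C => indFun C α y) = l₁ + l₂ - (2 : ℂ) • fun _ => 1 := by
    funext y
    rw [hres]
    simp [hl₁, hl₂, conjHom]
  obtain ⟨χ₁, χ₂, k1, k2, k3, k4, k5, k6⟩ := gen_norm_three (gen_indFun' C hαgen) (by
    rw [classInner_indFun_left C α (indFun_isClassFunction C α), hres', hα]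
    simp only [classInner_sub_left, classInner_sub_right, classInner_add_right,
      classInner_smul_right, irr_inner_self i₁, irr_inner_of_ne i₁ i₂ n₃, irr_inner_one i₁ n₁,
      irr_inner_of_ne irr_one i₁ n₁.symm, irr_inner_of_ne irr_one i₂ n₂.symm, classInner_one_one,
      map_ofNat]
    norm_num) (by
    rw [classInner_indFun_left C α (isClassFunction_const 1), hα, classInner_sub_left,
      irr_inner_one i₁ n₁, classInner_one_one]
    norm_num) (by rw [indFun_one]; simp [hα, hl₁])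
  exact ⟨χ₁, χ₂, k1, k2, k3, k4, k5, fun g => (k6 g).symm, fun y => by rw [← k6, hres]⟩

/-- The arithmetic at the end of the Brauer–Suzuki argument. -/
theorem eq_degree_of_pair [Fintype G] {χ₁ χ₂ : G → ℂ} (h₁ : IsIrrCharacter G χ₁)
    (h₂ : IsIrrCharacter G χ₂) {t : G} (e1 : χ₁ 1 - χ₂ 1 = 1) (et : χ₁ t - χ₂ t = 1)
    (H : ∀ g : G, χ₁ (t * (g * t * g⁻¹)) - χ₂ (t * (g * t * g⁻¹)) = 1) :
    χ₁ t = χ₁ 1 ∧ χ₂ t = χ₂ 1 := by
  have s₁ := irr_sum_mul_conj h₁ t t
  have s₂ := irr_sum_mul_conj h₂ t t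
  have s : ∑ g : G, (χ₁ (t * (g * t * g⁻¹)) - χ₂ (t * (g * t * g⁻¹))) = Nat.card G := by
    simp [H]
  rw [Finset.sum_sub_distrib, s₁, s₂] at s
  have hG : (Nat.card G : ℂ) ≠ 0 := card_ne_zero
  have n₁ := irr_apply_one_ne_zero h₁
  have n₂ := irr_apply_one_ne_zero h₂
  have e1' : χ₁ 1 = χ₂ 1 + 1 := by rw [← e1]; ring
  have et' : χ₁ t = χ₂ t + 1 := by rw [← et]; ring
  rw [e1'] at n₁
  rw [e1', et'] at s ⊢
  field_simp at s
  have : (χ₂ t - χ₂ 1) ^ 2 = 0 := by linear_combination -s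
  have : χ₂ t = χ₂ 1 := sub_eq_zero.1 (pow_eq_zero_iff two_ne_zero |>.1 this)
  exact ⟨by rw [this], this⟩

variable {S : Sylow 2 G} {n : ℕ} {a x : G}

theorem QuatData.exists_pair [Fintype G] (h : QuatData (S : Subgroup G) (2 ^ (n + 2)) a x) :
    ∃ χ₁ χ₂ : G → ℂ, IsIrrCharacter G χ₁ ∧ IsIrrCharacter G χ₂ ∧ χ₁ ≠ (fun _ => 1) ∧
      χ₂ ≠ (fun _ => 1) ∧ (∀ g, ¬ 2 ^ (n + 2) ∣ orderOf g → χ₁ g - χ₂ g = 1) ∧
      χ₁ (a ^ 2) - χ₂ (a ^ 2) = -3 ∧
      ∀ t, orderOf t = 2 → χ₁ t = χ₁ 1 ∧ χ₂ t = χ₂ 1 := by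
  obtain ⟨lam, hl, hsupp⟩ := h.exists_linear
  have hxC : ∀ c ∈ centralizer (zpowers (a ^ 2) : Set G),
      x⁻¹ * c * x ∈ centralizer (zpowers (a ^ 2) : Set G) := fun c hc => by
    simpa using conj_mem_centralizer_of_mem_normalizer
      (inv_mem (h.sylow_le_normalizer h.x_mem)) hc
  have ha' : conjHom _ x hxC ⟨a, h.a_mem_centralizer⟩ = ⟨a, h.a_mem_centralizer⟩⁻¹ :=
    Subtype.ext (h.conj_zpowers' (mem_zpowers a))
  have hl' : ((lam.comp (conjHom _ x hxC)) ⟨a, h.a_mem_centralizer⟩ : ℂ) = -Complex.I := by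
    rw [MonoidHom.comp_apply, ha', map_inv, Units.val_inv_eq_inv_val, hl, Complex.inv_I]
  obtain ⟨χ₁, χ₂, k1, k2, k3, k4, -, k6, k7⟩ := exists_pair_of_linear _ h.x_not_mem_centralizer
    hxC lam (by
      intro h1
      rw [h1] at hl
      have := congrArg Complex.re hl
      simp at this) (by
      intro h1
      rw [h1] at hl'
      have := congrArg Complex.re hl'
      simp at this) (by
      intro h1
      rw [← h1, hl] at hl'
      have := congrArg Complex.im hl'
      norm_num at this) (by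
      intro y g hg hne
      have h1 := hsupp _ hne
      have h2 := h.mem_normalizer_of_conj_mem (g := g) hg h1 (by simp [mul_assoc])
      exact h.mem_or_of_mem_normalizer h2)
  have hvan : ∀ g, ¬ 2 ^ (n + 2) ∣ orderOf g → χ₁ g - χ₂ g = 1 := by
    intro g hg
    rw [← sub_eq_zero, k6]
    refine indFun_eq_zero_of_forall _ _ fun y hy => ?_
    by_contra hne
    apply hg
    have := hsupp ⟨_, hy⟩ (fun h1 => hne (by simp [h1]))
    rwa [orderOf_conj'] at this
  have h4 : ∀ k, 2 ^ (n + 2) ∣ k → 4 ∣ k := fun k hk => Dvd.dvd.trans ⟨2 ^ n, by ring⟩ hk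
  refine ⟨χ₁, χ₂, k1, k2, k3, k4, hvan, ?_, fun t ht => ?_⟩
  · have := k7 (⟨a, h.a_mem_centralizer⟩ ^ 2)
    have e : (⟨x⁻¹ * ((⟨a, h.a_mem_centralizer⟩ ^ 2 : centralizer (zpowers (a ^ 2) : Set G)) : G)
        * x, hxC _ (Subtype.prop _)⟩ : centralizer (zpowers (a ^ 2) : Set G)) =
        conjHom _ x hxC (⟨a, h.a_mem_centralizer⟩ ^ 2) := rfl
    rw [e, ← MonoidHom.comp_apply, map_pow, map_pow, Units.val_pow_eq_pow_val,
      Units.val_pow_eq_pow_val, hl, hl', neg_sq, Complex.I_sq] at this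
    simp only [SubmonoidClass.mk_pow] at this
    linear_combination this
  · refine eq_degree_of_pair k1 k2 (hvan 1 fun h1 => ?_) (hvan t fun h1 => ?_)
      fun g => hvan _ fun h1 => ?_
    · have := h4 _ h1
      simp at this
    · have := h4 _ h1
      rw [ht] at this
      omega
    · have h2 := h.odd_orderOf_mul ht (u := g * t * g⁻¹) (by rw [orderOf_conj', ht])
      have h3 := h4 _ h1
      obtain ⟨k, hk⟩ := h2
      omega

/-- There is a normal subgroup containing all involutions, not containing `a ^ 2`, with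
non-abelian quotient. -/
theorem QuatData.exists_normal [Finite G] (h : QuatData (S : Subgroup G) (2 ^ (n + 2)) a x) :
    ∃ M : Subgroup G, M.Normal ∧ (∀ t, orderOf t = 2 → t ∈ M) ∧ a ^ 2 ∉ M := by
  have := Fintype.ofFinite G
  obtain ⟨χ₁, χ₂, k1, k2, -, -, k5, k6, k7⟩ := h.exists_pair
  obtain ⟨n₁, ρ₁, -, rfl⟩ := k1
  obtain ⟨n₂, ρ₂, -, rfl⟩ := k2
  refine ⟨ρ₁.ker ⊓ ρ₂.ker, inferInstance, fun t ht => ?_, fun ⟨h1, h2⟩ => ?_⟩
  · have ht2 : t * t = 1 := by rw [← sq, ← ht, pow_orderOf_eq_one]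
    exact ⟨rep_eq_one_of_sq_eq_one ρ₁ ht2 (k7 t ht).1, rep_eq_one_of_sq_eq_one ρ₂ ht2 (k7 t ht).2⟩
  · have e1 : ρ₁.character (a ^ 2) = ρ₁.character 1 := by
      unfold Representation.character
      rw [MonoidHom.mem_ker.1 h1, map_one ρ₁]
    have e2 : ρ₂.character (a ^ 2) = ρ₂.character 1 := by
      unfold Representation.character
      rw [MonoidHom.mem_ker.1 h2, map_one ρ₂]
    rw [e1, e2, k5 1 (by
      rw [orderOf_one, Nat.dvd_one]
      exact (Nat.one_lt_two_pow (by omega)).ne')] at k6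
    norm_num at k6

/-- The Sylow 2-subgroups of the subgroup generated by the involutions are cyclic. -/
theorem QuatData.isCyclic_of_le_closure [Finite G]
    (h : QuatData (S : Subgroup G) (2 ^ (n + 2)) a x) {Q : Subgroup G} (hQ : IsPGroup 2 Q)
    (hle : Q ≤ closure {g : G | orderOf g = 2}) : IsCyclic Q := by
  have : Fact (Nat.Prime 2) := ⟨Nat.prime_two⟩
  obtain ⟨M, hM, h1, h2⟩ := h.exists_normal
  have hQM : Q ≤ M := hle.trans ((closure_le M).2 h1)
  obtain ⟨g, hg⟩ := exists_conj_mem_sylow S hQ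
  have h3 : ∀ q ∈ Q, g * q * g⁻¹ ∈ zpowers a := by
    intro q hq
    rcases h.mem_cases _ (hg q hq) with h4 | ⟨b, hb, h4⟩
    · exact h4
    · exfalso
      apply h2
      have h5 : x * b ∈ M := h4 ▸ hM.conj_mem q (hQM hq) g
      have h6 := M.mul_mem (hM.conj_mem _ h5 a) (M.inv_mem h5)
      convert h6 using 1
      have h7 : b * a⁻¹ = a⁻¹ * b := by
        obtain ⟨k, rfl⟩ := mem_zpowers_iff.1 hb
        exact ((Commute.refl a).zpow_left k).inv_right.eq
      have h8 := h.conj_zpowers (inv_mem (mem_zpowers a))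
      calc a ^ 2 = a * (x * a⁻¹ * x⁻¹) := by rw [h8, inv_inv, sq]
        _ = a * x * (a⁻¹ * b) * b⁻¹ * x⁻¹ := by group
        _ = _ := by rw [← h7]; group
  let f : Q →* zpowers a := ((MulAut.conj g).toMonoidHom.comp Q.subtype).codRestrict _
    fun q => h3 q q.2
  refine isCyclic_of_injective f fun q q' hqq => ?_
  have := congrArg Subtype.val hqq
  exact Subtype.ext ((MulAut.conj g).injective this)

/-- **Brauer–Suzuki** (order at least 16): the involutions generate a subgroup whose elements of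
odd order form a normal subgroup `K` of `G`, and every involution is central modulo `K`. -/
theorem QuatData.exists_odd_normal [Finite G] (h : QuatData (S : Subgroup G) (2 ^ (n + 2)) a x) :
    ∃ K : Subgroup G, K.Normal ∧ Odd (Nat.card K) ∧
      ∀ t u : G, orderOf t = 2 → orderOf u = 2 → t * u ∈ K := by
  have : Fact (Nat.Prime 2) := ⟨Nat.prime_two⟩
  set L := closure {g : G | orderOf g = 2} with hL
  have hLn : L.Normal := by
    constructor
    intro l hl g
    induction hl using closure_induction with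
    | mem y hy => exact subset_closure (by rwa [Set.mem_ofPred_eq, orderOf_conj'])
    | one => simp
    | mul y z _ _ hy hz => simpa [mul_assoc] using L.mul_mem hy hz
    | inv y _ hy => simpa [mul_assoc] using L.inv_mem hy
  obtain ⟨P⟩ : Nonempty (Sylow 2 L) := inferInstance
  have hP : IsCyclic P := by
    have := h.isCyclic_of_le_closure (P.2.map L.subtype) (map_subtype_le _)
    exact isCyclic_of_surjective _
      ((P : Subgroup L).equivMapOfInjective L.subtype L.subtype_injective).symm.surjective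
  obtain ⟨τ, hτ, hodd⟩ := exists_hom_of_isCyclic_sylow P hP
  generalize τ.ker = K at hτ hodd
  have hmem : ∀ g : G, g ∈ K.map L.subtype ↔ g ∈ L ∧ Odd (orderOf g) := by
    intro g
    constructor
    · rintro ⟨c, hc, rfl⟩
      exact ⟨c.2, by simpa using (hodd c).1 hc⟩
    · rintro ⟨h1, h2⟩
      exact ⟨⟨g, h1⟩, (hodd _).2 (by simpa using h2), rfl⟩
  refine ⟨K.map L.subtype, ⟨fun k hk g => ?_⟩, ?_, fun t u ht hu => ?_⟩
  · rw [hmem] at hk ⊢
    exact ⟨hLn.conj_mem k hk.1 g, by rw [orderOf_conj']; exact hk.2⟩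
  · rw [card_map_of_injective L.subtype_injective, ← hτ.index_eq_card,
      ← Nat.not_even_iff_odd, even_iff_two_dvd]
    exact P.not_dvd_index
  · rw [hmem]
    exact ⟨L.mul_mem (subset_closure ht) (subset_closure hu), h.odd_orderOf_mul ht hu⟩

/-- If the involution `a ^ m` is central and there is no nontrivial normal subgroup of odd order,
the centre has order 2. -/
theorem QuatData.card_center_eq_two [Finite G] {m : ℕ} (h : QuatData (S : Subgroup G) m a x)
    (hm : 2 ≤ m) (hO : ∀ N : Subgroup G, N.Normal → Odd (Nat.card N) → N = ⊥)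
    (hz : a ^ m ∈ center G) : Nat.card (center G) = 2 := by
  have : Fact (Nat.Prime 2) := ⟨Nat.prime_two⟩
  have hnorm : ∀ z ∈ center G, (zpowers z).Normal := fun z hz =>
    ⟨fun w hw g => by
      have : w ∈ center G := (Subgroup.zpowers_le.2 hz) hw
      rwa [mem_center_iff.1 this g, mul_inv_cancel_right]⟩
  have h2 : ∀ z ∈ center G, z ∈ (S : Subgroup G) := by
    intro z hz
    obtain ⟨k, r, hr, hk⟩ := Nat.exists_eq_two_pow_mul_odd (orderOf_pos z).ne'
    have h3 : orderOf (z ^ 2 ^ k) = r := by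
      rw [orderOf_pow_of_dvd (by positivity) (by rw [hk]; exact Dvd.intro r rfl), hk,
        Nat.mul_div_cancel_left _ (by positivity)]
    have h4 := hO _ (hnorm _ (pow_mem hz (2 ^ k))) (by rwa [Nat.card_zpowers, h3])
    rw [zpowers_eq_bot] at h4
    rw [h4, orderOf_one] at h3
    rw [← h3, mul_one] at hk
    have := hnorm z hz
    exact (isPGroup_zpowers_of_orderOf hk).le_sylow_of_normal S (mem_zpowers z)
  have : center G = zpowers (a ^ m) := by
    apply le_antisymm
    · intro z hz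
      rcases h.eq_of_central hm (h2 z hz) (mem_center_iff.1 hz a) (mem_center_iff.1 hz x)
        with rfl | rfl
      · exact one_mem _
      · exact mem_zpowers _
    · exact Subgroup.zpowers_le.2 hz
  rw [this, Nat.card_zpowers, h.orderOf_a_pow_m]

/-- **Brauer–Suzuki** (order at least 16), centre form. -/
theorem QuatData.card_center_eq_two_of_sixteen [Finite G]
    (h : QuatData (S : Subgroup G) (2 ^ (n + 2)) a x)
    (hO : ∀ N : Subgroup G, N.Normal → Odd (Nat.card N) → N = ⊥) : Nat.card (center G) = 2 := by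
  refine h.card_center_eq_two (le_trans (by norm_num) (Nat.pow_le_pow_right two_pos
    (show 1 ≤ n + 2 by omega))) hO ?_
  obtain ⟨K, h1, h2, h3⟩ := h.exists_odd_normal
  rw [mem_center_iff]
  intro g
  have ht := h.orderOf_a_pow_m
  have h4 := h3 _ _ ht (show orderOf (g * (a ^ 2 ^ (n + 2))⁻¹ * g⁻¹) = 2 by
    rw [orderOf_conj', orderOf_inv, ht])
  rw [hO K h1 h2, mem_bot] at h4
  calc g * a ^ 2 ^ (n + 2) = (a ^ 2 ^ (n + 2) * (g * (a ^ 2 ^ (n + 2))⁻¹ * g⁻¹)) *
        (g * a ^ 2 ^ (n + 2)) := by rw [h4, one_mul]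
    _ = _ := by group

end CL.BS
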