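import Cfsg.Agent.Char.Burnside
import Cfsg.Agent.Char.Inflate
import Cfsg.Agent.Solv.CoprimeGen

/-!
Itô's theorem on coprime automorphisms: an automorphism of `p`-power order of a `p'`-group fixing a
faithful character of degree less than `p - 1` is trivial.
-/

set_option autoImplicit false
open scoped ComplexConjugate Pointwise commutatorElement
open Cfsg CL.Char

namespace CL.FTB

universe u

theorem card_modEq_card_fixed {X : Type*} [Finite X] {p : ℕ} [Fact p.Prime] (f : X → X)
    (hf : f^[p] = id) : Nat.card X ≡ Nat.card {x // f x = x} [MOD p] := by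
  classical
  have := Fintype.ofFinite X
  have h := Equiv.Perm.card_fixedPoints_modEq (α := X) (f := f) (p := p) (n := 1) (by
    rw [pow_one]
    exact (hom_coe_pow (fun g : Function.End X => g) rfl (fun _ _ => rfl) f p).trans hf)
  rw [Nat.card_eq_fintype_card, Nat.card_eq_fintype_card]
  convert h using 1
  exact Fintype.card_congr (Equiv.refl _)

/-- A character with trivial kernel of a non-trivial group has a non-principal constituent. -/
theorem exists_irr_ne_one_inner_ne_zero {G : Type*} [Group G] [Fintype G] {ψ : G → ℂ}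
    (hψ : IsCharacter G ψ) (h : charKer ψ ≠ ⊤) :
    ∃ θ, IsIrrCharacter G θ ∧ θ ≠ (fun _ => 1) ∧ classInner ψ θ ≠ 0 := by
  by_contra hcon
  push Not at hcon
  refine h (eq_top_iff.2 fun y _ => (char_mem_charKer_iff hψ).2 ?_)
  rw [classFun_apply_eq_sum (char_isClassFunction hψ) y,
    classFun_apply_eq_sum (char_isClassFunction hψ) 1]
  refine Finset.sum_congr rfl fun θ _ => ?_
  by_cases h1 : θ.1 = fun _ => 1
  · rw [h1]
  · rw [hcon θ.1 θ.2 h1, zero_mul, zero_mul]

/-- An automorphism of order `p` fixing a character of degree less than `p` fixes its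
constituents. -/
theorem irr_comp_eq_of_deg_lt {Q : Type*} [Group Q] [Fintype Q] {p : ℕ} [Fact p.Prime]
    (α : MulAut Q) (hα : α ^ p = 1) {ψ : Q → ℂ} (hψ : IsCharacter Q ψ)
    (hinv : ∀ y, ψ (α y) = ψ y) (hdeg : deg ψ < p) {θ : Q → ℂ} (hθ : IsIrrCharacter Q θ)
    (hne : classInner ψ θ ≠ 0) (y : Q) : θ (α y) = θ y := by
  classical
  let S := {φ : IrrCharacter Q // classInner ψ φ.1 ≠ 0}
  let f : S → S := fun φ => ⟨irrCompEquiv α φ.1, by
    have h1 := classInner_comp_mulEquiv α ψ φ.1.1
    simp only [hinv] at h1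
    exact h1 ▸ φ.2⟩
  have hiter : ∀ (k : ℕ) (φ : S) (y : Q), (f^[k] φ).1.1 y = φ.1.1 ((α ^ k) y) := by
    intro k
    induction k with
    | zero => intro φ y; simp
    | succ k ih =>
      intro φ y
      rw [Function.iterate_succ_apply', pow_succ, MulAut.mul_apply, ← ih]
      rfl
  have hf : f^[p] = id := by
    funext φ
    refine Subtype.ext (Subtype.ext (funext fun y => ?_))
    rw [hiter, hα]; rfl
  have h1 := card_modEq_card_fixed f hf
  have h2 : Nat.card S ≤ deg ψ := by
    obtain ⟨m, hm, hψm⟩ := char_exists_eq_sum hψ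
    have h3 : (deg ψ : ℂ) = ((∑ φ : IrrCharacter Q, m φ * deg φ.1 : ℕ) : ℂ) := by
      rw [char_cast_deg hψ]
      conv_lhs => rw [hψm]
      simp only [Finset.sum_apply, Pi.smul_apply, smul_eq_mul]
      push_cast
      exact Finset.sum_congr rfl fun φ _ => by rw [irr_cast_deg φ.2]
    rw [Nat.cast_inj.1 h3, Nat.card_eq_fintype_card, Fintype.card_subtype, Finset.card_filter]
    refine Finset.sum_le_sum fun φ _ => ?_
    split_ifs with h
    · refine Nat.mul_pos (Nat.pos_of_ne_zero fun h0 => h ?_) (irr_deg_pos φ.2)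
      rw [hm, h0, Nat.cast_zero]
    · exact Nat.zero_le _
  have h3 : Nat.card {x // f x = x} ≤ Nat.card S :=
    Nat.card_le_card_of_injective _ Subtype.val_injective
  have h4 : Nat.card {x // f x = x} = Nat.card S :=
    (Nat.ModEq.eq_of_lt_of_lt h1 (h2.trans_lt hdeg) ((h3.trans h2).trans_lt hdeg)).symm
  have h5 : Function.Bijective (Subtype.val : {x // f x = x} → S) :=
    (Nat.bijective_iff_injective_and_card _).2 ⟨Subtype.val_injective, h4⟩
  obtain ⟨x, hx⟩ := h5.2 ⟨⟨θ, hθ⟩, hne⟩
  have h6 := x.2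
  rw [hx] at h6
  exact congrFun (congrArg (fun φ : S => φ.1.1) h6) y

theorem aut_eq_one_step {Q : Type*} [Group Q] [Finite Q] {p : ℕ} [hp : Fact p.Prime]
    (hQ : ¬ p ∣ Nat.card Q) (α : MulAut Q) (hα : α ^ p = 1) {ψ : Q → ℂ} (hψ : IsCharacter Q ψ)
    (hker : charKer ψ = ⊥) (hinv : ∀ y, ψ (α y) = ψ y) (hdeg : deg ψ + 1 < p)
    (ih : ∀ H : Subgroup Q, H ≠ ⊤ → (∀ y ∈ H, α y ∈ H) → ∀ y ∈ H, α y = y) : α = 1 := by
  classical
  have := Fintype.ofFinite Q
  let C : Subgroup Q := α.toMonoidHom.eqLocus (MonoidHom.id Q)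
  have hC : ∀ y, y ∈ C ↔ α y = y := fun y => Iff.rfl
  by_contra hne
  have hCtop : C ≠ ⊤ := fun h => hne (MulEquiv.ext fun y => (hC y).1 (h ▸ Subgroup.mem_top y))
  have hnt : Nontrivial Q := by
    by_contra h
    rw [not_nontrivial_iff_subsingleton] at h
    exact hCtop (Subsingleton.elim _ _)
  -- `Q` has prime power order
  obtain ⟨q, hq, hqQ⟩ : ∃ q : ℕ, q.Prime ∧ IsPGroup q Q := by
    by_contra hcon
    push Not at hcon
    refine hCtop (eq_of_le_of_forall_sylow_le le_top fun q hq => ?_)
    have : Fact q.Prime := ⟨hq⟩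
    have h1 := card_modEq_card_fixed (p := p) (fun P : Sylow q Q => α • P) (by
      funext P
      rw [smul_iterate, hα]; exact one_smul _ P)
    have h2 : Nonempty {P : Sylow q Q // α • P = P} := by
      by_contra h
      rw [not_nonempty_iff] at h
      rw [Nat.card_of_isEmpty (α := {P : Sylow q Q // α • P = P}),
        Nat.modEq_zero_iff_dvd] at h1
      obtain ⟨P⟩ := (inferInstance : Nonempty (Sylow q Q))
      exact hQ (h1.trans ((Sylow.card_dvd_index P).trans (Subgroup.index_dvd_card _)))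
    obtain ⟨P, hP⟩ := h2
    refine ⟨P, fun y hy => (hC y).2 (ih P (fun h => hcon q hq ?_) (fun y hy => ?_) y hy), ?_⟩
    · exact (h ▸ P.isPGroup').of_equiv Subgroup.topEquiv
    · have h3 : α • y ∈ α • (P : Subgroup Q) := Subgroup.smul_mem_pointwise_smul _ _ _ hy
      rw [← Sylow.pointwise_smul_def, hP] at h3
      exact h3
    · rw [P.card_eq_multiplicity, Subgroup.card_top]
  have : Fact q.Prime := ⟨hq⟩
  have : Group.IsNilpotent Q := hqQ.isNilpotent
  -- the elements `y⁻¹ α y` generate `Q`
  have hD : ∀ H : Subgroup Q, (∀ y, y⁻¹ * α y ∈ H) → H = ⊤ := by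
    intro H hH
    by_contra hH'
    have h1 : Subgroup.closure (Set.range fun y => y⁻¹ * α y) ≤ H := by
      rw [Subgroup.closure_le]; rintro _ ⟨y, rfl⟩; exact hH y
    have h2 := ih (Subgroup.closure (Set.range fun y => y⁻¹ * α y))
      (fun h => hH' (eq_top_iff.2 (h ▸ h1))) (by
        intro y hy
        induction hy using Subgroup.closure_induction with
        | mem x hx =>
          obtain ⟨y, rfl⟩ := hx
          exact Subgroup.subset_closure ⟨α y, by simp⟩
        | one => rw [map_one]; exact Subgroup.one_mem _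
        | mul a b _ _ ha hb => rw [map_mul]; exact Subgroup.mul_mem _ ha hb
        | inv a _ ha => rw [map_inv]; exact Subgroup.inv_mem _ ha)
    refine hne (MulEquiv.ext fun y => ?_)
    have h3 := h2 _ (Subgroup.subset_closure ⟨y, rfl⟩)
    obtain ⟨c, hc⟩ : ∃ c, c = y⁻¹ * α y := ⟨_, rfl⟩
    simp only [← hc] at h3
    have h4 : α y = y * c := by rw [hc]; group
    have h5 : ∀ k : ℕ, (α ^ k) y = y * c ^ k := by
      intro k
      induction k with
      | zero => simp
      | succ k ih => rw [pow_succ', MulAut.mul_apply, ih, map_mul, map_pow, h3, h4, pow_succ',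
          mul_assoc]
    have h6 := h5 p
    rw [hα, MulAut.one_apply, left_eq_mul] at h6
    have h7 : orderOf c = 1 := by
      rcases (Nat.dvd_prime hp.out).1 (orderOf_dvd_of_pow_eq_one h6) with h | h
      · exact h
      · exact (hQ (h ▸ orderOf_dvd_natCard c)).elim
    rw [h4, orderOf_eq_one_iff.1 h7, mul_one]; rfl
  have hcomm : commutator Q ≤ C := fun y hy => (hC y).2 (ih _
    (Group.IsSolvable.commutator_lt_top_of_nontrivial Q).ne (fun y hy => by
      have := Subgroup.characteristic_iff_map_le.1 (inferInstance : (commutator Q).Characteristic) α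
      exact this ⟨y, hy, rfl⟩) y hy)
  have hCZ : C ≤ Subgroup.center Q := by
    intro c hc
    have h1 := hD (Subgroup.centralizer {c}) (fun y => by
      have h2 := (hC _).1 (hcomm (Subgroup.commutator_mem_commutator (Subgroup.mem_top y)
        (Subgroup.mem_top c)))
      rw [commutatorElement_def, map_mul, map_mul, map_mul, map_inv, map_inv, (hC c).1 hc] at h2
      rw [Subgroup.mem_centralizer_singleton_iff]
      have h3 : α y * c * (α y)⁻¹ = y * c * y⁻¹ := mul_right_cancel h2
      calc y⁻¹ * α y * c = y⁻¹ * (α y * c * (α y)⁻¹) * α y := by group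
        _ = c * (y⁻¹ * α y) := by rw [h3]; group)
    rw [Subgroup.mem_center_iff]
    intro g
    exact Subgroup.mem_centralizer_singleton_iff.1 (h1 ▸ Subgroup.mem_top g)
  obtain ⟨θ, hθ, hθ1, hθψ⟩ := exists_irr_ne_one_inner_ne_zero hψ (hker ▸ bot_ne_top)
  have hθα := irr_comp_eq_of_deg_lt α hα hψ hinv (by omega) hθ hθψ
  have hθc := irr_isCharacter hθ
  have hd : deg θ ≤ deg ψ := deg_le_of_inner_ne_zero hψ hθ hθψ
  have hd0 := irr_deg_pos hθ
  have hd1 : deg θ ≠ 1 := by
    intro h
    obtain ⟨f, hf⟩ := char_exists_unitsHom hθc (by rw [← irr_cast_deg hθ, h, Nat.cast_one])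
    have h1 := hD f.ker (fun y => by
      have h2 := hθα y
      rw [hf] at h2
      have h3 : f (α y) = f y := Units.ext h2
      rw [MonoidHom.mem_ker, map_mul, map_inv, h3, inv_mul_cancel])
    refine hθ1 (hf.trans (funext fun y => ?_))
    rw [MonoidHom.mem_ker.1 (h1 ▸ Subgroup.mem_top y), Units.val_one]
  have hnorm1 : ‖θ 1‖ = deg θ := by rw [← irr_cast_deg hθ, Complex.norm_natCast]
  have hZC : charCenter θ ≤ C := fun y hy => (hC y).2 (ih _ (fun h => by
      have h1 := irr_sum_norm_sq hθ
      rw [Finset.sum_congr rfl (fun g _ => by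
        rw [(char_mem_charCenter_iff hθc).1 (h ▸ Subgroup.mem_top g), hnorm1]),
        Finset.sum_const, Finset.card_univ, nsmul_eq_mul, ← Nat.card_eq_fintype_card] at h1
      have h2 : Nat.card Q * deg θ ^ 2 = Nat.card Q * 1 := by
        rw [mul_one]; exact_mod_cast h1
      exact hd1 ((Nat.pow_eq_one.1
        (Nat.eq_of_mul_eq_mul_left Nat.card_pos h2)).resolve_right two_ne_zero))
    (fun y hy => by
      rw [char_mem_charCenter_iff hθc] at hy ⊢
      rw [hθα, hy]) y hy)
  have hCZ' : C ≤ charCenter θ := hCZ.trans (irr_center_le_charCenter hθ)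
  have hvan : ∀ y, y ∉ C → θ y = 0 := by
    intro y hy
    obtain ⟨g, hg⟩ : ∃ g, y * g * y⁻¹ * g⁻¹ ∉ charKer θ := by
      by_contra h
      push Not at h
      exact hy (hZC ((irr_mem_charCenter_iff_commutator hθ).2 h))
    obtain ⟨ω, -, hω⟩ := hCZ' (hcomm (Subgroup.commutator_mem_commutator (Subgroup.mem_top y)
      (Subgroup.mem_top g)))
    rw [commutatorElement_def] at hω
    have h1 := hω (g * y * g⁻¹)
    rw [irr_isClassFunction hθ y g, show y * g * y⁻¹ * g⁻¹ * (g * y * g⁻¹) = y by group] at h1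
    by_contra h0
    refine hg fun x => ?_
    rw [hω, mul_right_cancel₀ h0 (h1.symm.trans (one_mul _).symm), one_mul]
  have hcard : Nat.card C * deg θ ^ 2 = Nat.card Q := by
    have h1 := irr_sum_norm_sq hθ
    rw [← Finset.sum_filter_add_sum_filter_not Finset.univ (· ∈ C),
      Finset.sum_eq_zero (s := Finset.univ.filter (· ∉ C)) (fun g hg => by
        rw [hvan g (Finset.mem_filter.1 hg).2]; simp), add_zero,
      Finset.sum_congr rfl (fun g hg => by
        rw [(char_mem_charCenter_iff hθc).1 (hCZ' (Finset.mem_filter.1 hg).2), hnorm1]),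
      Finset.sum_const, nsmul_eq_mul, ← Fintype.card_subtype, ← Nat.card_eq_fintype_card] at h1
    exact_mod_cast h1
  have hmod := card_modEq_card_fixed (p := p) (fun y : Q => α y) (by
    funext y
    change (fun y : Q => α • y)^[p] y = y
    rw [smul_iterate, hα]; exact one_smul _ y)
  have h1 : Nat.card {y // α y = y} = Nat.card C := rfl
  rw [h1, ← hcard] at hmod
  have h2 : Nat.Coprime p (Nat.card C) :=
    (Nat.Prime.coprime_iff_not_dvd hp.out).2 fun h => hQ (h.trans (Subgroup.card_subgroup_dvd_card C))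
  have h3 : deg θ ^ 2 ≡ 1 [MOD p] :=
    Nat.ModEq.cancel_left_of_coprime h2 (by rwa [mul_one])
  obtain ⟨e, he⟩ : ∃ e, deg θ = e + 1 := ⟨deg θ - 1, by omega⟩
  have h4 : p ∣ e * (e + 2) := by
    have := (Nat.modEq_iff_dvd' (Nat.one_le_pow _ _ hd0)).1 h3.symm
    rwa [he, show (e + 1) ^ 2 - 1 = e * (e + 2) by ring_nf; omega] at this
  rcases (Nat.Prime.dvd_mul hp.out).1 h4 with h | h
  · exact absurd (Nat.le_of_dvd (by omega) h) (by omega)
  · exact absurd (Nat.le_of_dvd (by omega) h) (by omega)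

theorem aut_eq_one_of_pow_prime (p : ℕ) [Fact p.Prime] (n : ℕ) :
    ∀ {Q : Type u} [Group Q] [Finite Q], Nat.card Q = n → ¬ p ∣ Nat.card Q →
      ∀ α : MulAut Q, α ^ p = 1 → ∀ {ψ : Q → ℂ}, IsCharacter Q ψ → charKer ψ = ⊥ →
      (∀ y, ψ (α y) = ψ y) → deg ψ + 1 < p → α = 1 := by
  induction n using Nat.strong_induction_on with
  | _ n ih =>
    intro Q _ _ hn hQ α hα ψ hψ hker hinv hdeg
    refine aut_eq_one_step hQ α hα hψ hker hinv hdeg fun H hH hHα y hy => ?_
    let f : H →* H := (α.toMonoidHom.comp H.subtype).codRestrict H fun y => hHα y y.2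
    have hf : Function.Injective f := fun a b h =>
      Subtype.ext (α.injective (congrArg Subtype.val h))
    let β : MulAut H := MulEquiv.ofBijective f ⟨hf, Finite.surjective_of_injective hf⟩
    have hβ : ∀ (k : ℕ) (y : H), (((β ^ k) y : H) : Q) = (α ^ k) y := by
      intro k
      induction k with
      | zero => intro y; rfl
      | succ k ih => intro y; rw [pow_succ, pow_succ, MulAut.mul_apply, ih]; rfl
    have hlt : Nat.card H < n := by
      rw [← hn]
      exact lt_of_le_of_ne (Subgroup.card_le_card_group H)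
        (fun h => hH (Subgroup.eq_top_of_card_eq H h))
    have h1 := ih _ hlt rfl (fun h => hQ (h.trans (Subgroup.card_subgroup_dvd_card H))) β
      (MulEquiv.ext fun y => Subtype.ext (by rw [hβ, hα]; rfl)) (char_restrict hψ H)
      (eq_bot_iff.2 fun y hy => by
        have h3 := apply_eq_of_mem_charKer hy
        have h2 := (char_mem_charKer_iff hψ (x := y)).2 h3
        rw [hker] at h2
        exact Subgroup.mem_bot.2 (Subtype.ext (Subgroup.mem_bot.1 h2)))
      (fun y => hinv y) hdeg
    have h2 := hβ 1 ⟨y, hy⟩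
    rw [h1, pow_one, pow_one] at h2
    exact h2.symm

/-- An automorphism of `p`-power order of a `p'`-group fixing a faithful character of degree less
than `p - 1` is trivial. -/
theorem aut_eq_one_of_deg_lt {p : ℕ} [Fact p.Prime] {Q : Type*} [Group Q] [Finite Q]
    (hQ : ¬ p ∣ Nat.card Q) (α : MulAut Q) {k : ℕ} (hα : α ^ p ^ k = 1) {ψ : Q → ℂ}
    (hψ : IsCharacter Q ψ) (hker : charKer ψ = ⊥) (hinv : ∀ y, ψ (α y) = ψ y)
    (hdeg : deg ψ + 1 < p) : α = 1 := by
  have hpow : ∀ (m : ℕ) (y : Q), ψ ((α ^ m) y) = ψ y := by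
    intro m
    induction m with
    | zero => intro y; rfl
    | succ m ih => intro y; rw [pow_succ', MulAut.mul_apply, hinv, ih]
  induction k with
  | zero => simpa using hα
  | succ k ih =>
    refine ih (aut_eq_one_of_pow_prime p _ rfl hQ _ ?_ hψ hker (hpow _) hdeg)
    rw [← pow_mul, ← pow_succ, hα]

end CL.FTB
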