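import Cfsg.Agent.Char.Clifford
import Cfsg.Agent.Char.TI
import Cfsg.Agent.Char.Burnside
import Cfsg.Prelude.Def_OddOrderChar

/-!
Characters of a finite group `L` with a normal subgroup `K` that contains the centralizer of each
of its non-identity elements (a Frobenius kernel), and the consequences for coherent sets of
characters of the normalizer of a T.I. subgroup.
-/

set_option autoImplicit false
open scoped ComplexConjugate
open Cfsg CL.Char

namespace CL.TIFN

section Kernel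

variable {L : Type*} [Group L]

/-- If `g` commutes with no non-identity element of the finite normal subgroup `K`, every element
of `K` is a commutator `y g y⁻¹ g⁻¹` with `y ∈ K`. -/
theorem exists_eq_comm (K : Subgroup L) [hK : K.Normal] [Finite K] {g : L}
    (hg : ∀ k ∈ K, k * g = g * k → k = 1) {k : L} (hk : k ∈ K) :
    ∃ y ∈ K, y * g * y⁻¹ * g⁻¹ = k := by
  let f : K → K := fun y => ⟨y * g * y⁻¹ * g⁻¹, by
    have := K.mul_mem y.2 (hK.conj_mem _ (K.inv_mem y.2) g)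
    simpa [mul_assoc] using this⟩
  have hf : Function.Injective f := by
    intro a b hab
    have h1 : (a : L) * g * a⁻¹ * g⁻¹ = b * g * b⁻¹ * g⁻¹ := congrArg Subtype.val hab
    have h2 : (a : L) * g * (a : L)⁻¹ = b * g * (b : L)⁻¹ := by
      simpa using h1
    have h3 : ((b : L)⁻¹ * a) * g = g * ((b : L)⁻¹ * a) := by
      calc ((b : L)⁻¹ * a) * g = (b : L)⁻¹ * (a * g * (a : L)⁻¹) * a := by group
        _ = (b : L)⁻¹ * (b * g * (b : L)⁻¹) * a := by rw [h2]
        _ = g * ((b : L)⁻¹ * a) := by group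
    have h4 := hg _ (K.mul_mem (K.inv_mem b.2) a.2) h3
    exact Subtype.ext (inv_mul_eq_one.1 h4).symm
  obtain ⟨y, hy⟩ := Finite.surjective_of_injective hf ⟨k, hk⟩
  exact ⟨y, y.2, by simpa [f] using congrArg Subtype.val hy⟩

theorem eq_one_of_comm_of_not_mem (K : Subgroup L)
    (hC : ∀ k ∈ K, k ≠ 1 → Subgroup.centralizer ({k} : Set L) ≤ K) {g : L} (hg : g ∉ K) :
    ∀ k ∈ K, k * g = g * k → k = 1 := by
  intro k hk h
  by_contra h1
  exact hg (hC k hk h1 (Subgroup.mem_centralizer_singleton_iff.2 h.symm))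

variable [Fintype L]

open scoped Classical in
theorem sum_ite_mem_mul (K : Subgroup L) [Fintype K] (f : L → ℂ) :
    ∑ x : L, (if x ∈ K then (1 : ℂ) else 0) * f x = ∑ k : K, f k := by
  rw [← sum_extendByZero K (fun k : K => f k)]
  refine Finset.sum_congr rfl fun x _ => ?_
  by_cases hx : x ∈ K
  · rw [if_pos hx, one_mul, extendByZero_of_mem _ _ hx]
  · rw [if_neg hx, zero_mul, extendByZero_of_not_mem _ _ hx]

/-- An irreducible character that is not constant on the normal subgroup `K` sums to zero there. -/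
theorem sum_res_eq_zero (K : Subgroup L) [K.Normal] [Fintype K] {χ : L → ℂ}
    (hχ : IsIrrCharacter L χ) (hk : ∃ k ∈ K, χ k ≠ χ 1) : ∑ k : K, χ k = 0 := by
  obtain ⟨k, hk, hne⟩ := hk
  by_contra h
  refine hne (apply_eq_of_inner_res_one_ne_zero K hχ ?_ hk)
  rw [classInner_one_right]
  exact mul_ne_zero (inv_ne_zero (natCard_cast_ne_zero K)) h

/-- An irreducible character not constant on the normal subgroup `K` vanishes at every element
that commutes with no non-identity element of `K`. -/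
theorem irr_apply_eq_zero (K : Subgroup L) [hK : K.Normal] {χ : L → ℂ}
    (hχ : IsIrrCharacter L χ) (hk : ∃ k ∈ K, χ k ≠ χ 1) {g : L}
    (hg : ∀ k ∈ K, k * g = g * k → k = 1) : χ g = 0 := by
  classical
  have : Fintype K := Fintype.ofFinite K
  have hcl : IsClassFunction L (fun x => if x ∈ K then (1 : ℂ) else 0) := by
    intro x y
    have : y * x * y⁻¹ ∈ K ↔ x ∈ K :=
      ⟨fun h => by simpa [mul_assoc] using hK.conj_mem _ h y⁻¹, fun h => hK.conj_mem _ h y⟩
    simp only [this]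
  have h1 := irr_sum_mul_apply_mul hχ hcl g
  rw [sum_ite_mem_mul K (fun x => χ (x * g)), sum_ite_mem_mul K χ, sum_res_eq_zero K hχ hk,
    zero_div, zero_mul] at h1
  have h2 : ∀ k : K, χ (k * g) = χ g := by
    intro k
    obtain ⟨y, -, hy⟩ := exists_eq_comm K hg k.2
    rw [← hy, ← irr_isClassFunction hχ g y]
    congr 1
    group
  simp only [h2, Finset.sum_const, Finset.card_univ, nsmul_eq_mul] at h1
  rw [← Nat.card_eq_fintype_card] at h1
  exact (mul_eq_zero.1 h1).resolve_left (natCard_cast_ne_zero K)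

open scoped Classical in
/-- The squares of the degrees of the irreducible characters constant on the normal subgroup `K`
add up to the index of `K`. -/
theorem sum_sq_eq_index (K : Subgroup L) [K.Normal] :
    ∑ χ ∈ Finset.univ.filter (fun χ : IrrCharacter L => ¬ ∃ k ∈ K, χ.1 k ≠ χ.1 1),
      χ.1 1 * χ.1 1 = K.index := by
  have : Fintype K := Fintype.ofFinite K
  have h1 : ∑ k : K, regChar L k = Nat.card L := by
    rw [Finset.sum_eq_single (1 : K)]
    · simp [regChar_one]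
    · intro k _ hk
      exact regChar_of_ne (fun h => hk (Subtype.ext h))
    · simp
  have h2 : ∑ k : K, regChar L k =
      ∑ χ : IrrCharacter L, χ.1 1 * ∑ k : K, χ.1 k := by
    simp only [regChar_eq_sum, Finset.sum_apply, Pi.smul_apply, smul_eq_mul, Finset.mul_sum]
    exact Finset.sum_comm
  rw [h2, ← Finset.sum_filter_add_sum_filter_not Finset.univ
    (fun χ : IrrCharacter L => ∃ k ∈ K, χ.1 k ≠ χ.1 1),
    Finset.sum_eq_zero (fun χ hχ => by
      rw [sum_res_eq_zero K χ.2 (Finset.mem_filter.1 hχ).2, mul_zero]), zero_add] at h1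
  have h3 : ∀ χ ∈ Finset.univ.filter
      (fun χ : IrrCharacter L => ¬ ∃ k ∈ K, χ.1 k ≠ χ.1 1),
      χ.1 1 * ∑ k : K, χ.1 k =
        (Nat.card K : ℂ) * (χ.1 1 * χ.1 1) := by
    intro χ hχ
    have h := (Finset.mem_filter.1 hχ).2
    push Not at h
    rw [Finset.sum_congr rfl (fun (k : K) _ => h k k.2), Finset.sum_const, Finset.card_univ,
      nsmul_eq_mul, Nat.card_eq_fintype_card]
    ring
  rw [Finset.sum_congr rfl h3, ← Finset.mul_sum, ← K.card_mul_index, Nat.cast_mul] at h1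
  exact mul_left_cancel₀ (natCard_cast_ne_zero K) h1

open scoped Classical in
theorem sum_mul_eq_neg_index (K : Subgroup L) [K.Normal] {k : L} (hk : k ∈ K) (hk1 : k ≠ 1) :
    ∑ χ ∈ Finset.univ.filter (fun χ : IrrCharacter L => ∃ k ∈ K, χ.1 k ≠ χ.1 1),
      χ.1 1 * χ.1 k = -(K.index : ℂ) := by
  have h1 := sum_irr_apply_one_mul (G := L) hk1
  rw [← Finset.sum_filter_add_sum_filter_not Finset.univ
    (fun χ : IrrCharacter L => ∃ k ∈ K, χ.1 k ≠ χ.1 1)] at h1
  rw [← sum_sq_eq_index K, eq_neg_iff_add_eq_zero, ← h1]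
  congr 1
  refine Finset.sum_congr rfl fun χ hχ => ?_
  have h := (Finset.mem_filter.1 hχ).2
  push Not at h
  rw [h k hk]

/-- A class function whose multiplicities on the characters not constant on `K` are proportional to
the degrees is constant on the non-identity elements of `K`. -/
theorem apply_eq_of_inner (K : Subgroup L) [K.Normal] {ψ : L → ℂ} (hψ : IsClassFunction L ψ)
    (h : ∀ χ ξ : L → ℂ, IsIrrCharacter L χ → (∃ k ∈ K, χ k ≠ χ 1) → IsIrrCharacter L ξ →
      (∃ k ∈ K, ξ k ≠ ξ 1) → ξ 1 * classInner ψ χ = χ 1 * classInner ψ ξ)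
    {a b : L} (ha : a ∈ K) (ha1 : a ≠ 1) (hb : b ∈ K) (hb1 : b ≠ 1) : ψ a = ψ b := by
  classical
  obtain ⟨c, hc⟩ : ∃ c : ℂ, ∀ χ : L → ℂ, IsIrrCharacter L χ → (∃ k ∈ K, χ k ≠ χ 1) →
      classInner ψ χ = c * χ 1 := by
    by_cases hS : ∃ ξ : L → ℂ, IsIrrCharacter L ξ ∧ ∃ k ∈ K, ξ k ≠ ξ 1
    · obtain ⟨ξ, hξ, hξK⟩ := hS
      refine ⟨classInner ψ ξ / ξ 1, fun χ hχ hχK => ?_⟩
      have := h χ ξ hχ hχK hξ hξK
      have h0 := irr_apply_one_ne_zero hξ
      field_simp
      linear_combination this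
    · exact ⟨0, fun χ hχ hχK => (hS ⟨χ, hχ, hχK⟩).elim⟩
  have key : ∀ x ∈ K, x ≠ 1 → ψ x = c * -(K.index : ℂ) +
      ∑ χ ∈ Finset.univ.filter (fun χ : IrrCharacter L => ¬ ∃ k ∈ K, χ.1 k ≠ χ.1 1),
        classInner ψ χ.1 * χ.1 1 := by
    intro x hx hx1
    rw [classFun_apply_eq_sum hψ x, ← Finset.sum_filter_add_sum_filter_not Finset.univ
      (fun χ : IrrCharacter L => ∃ k ∈ K, χ.1 k ≠ χ.1 1),
      ← sum_mul_eq_neg_index K hx hx1, Finset.mul_sum]
    congr 1
    · refine Finset.sum_congr rfl fun χ hχ => ?_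
      rw [hc χ χ.2 (Finset.mem_filter.1 hχ).2, mul_assoc]
    · refine Finset.sum_congr rfl fun χ hχ => ?_
      have h := (Finset.mem_filter.1 hχ).2
      push Not at h
      rw [h x hx]
  rw [key a ha ha1, key b hb hb1]

/-- A function constant on the non-identity elements of `K` is orthogonal to each function that
vanishes at `1` and off `K` and has sum zero. -/
theorem classInner_eq_zero_of_const (K : Subgroup L) {ψ α : L → ℂ} {c : ℂ}
    (hc : ∀ k ∈ K, k ≠ 1 → ψ k = c) (h1 : α 1 = 0) (hK : ∀ x, x ∉ K → α x = 0)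
    (hα : classInner α (fun _ => 1) = 0) : classInner ψ α = 0 := by
  have h2 : classInner ψ α = c * classInner (fun _ => 1) α := by
    rw [← classInner_smul_left]
    unfold classInner
    congr 1
    refine Finset.sum_congr rfl fun x _ => ?_
    by_cases hx : x ∈ K
    · by_cases hx1 : x = 1
      · simp [hx1, h1]
      · simp [hc x hx hx1]
    · simp [hK x hx]
  rw [h2, classInner_eq_zero_comm.1 hα, mul_zero]

/-- In a Frobenius group with abelian kernel `K`, the irreducible characters not constant on `K`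
have degree the index of `K`. -/
theorem irr_apply_one_of_comm_kernel (K : Subgroup L) [hK : K.Normal]
    (hC : ∀ k ∈ K, k ≠ 1 → Subgroup.centralizer ({k} : Set L) ≤ K)
    (hab : ∀ a ∈ K, ∀ b ∈ K, a * b = b * a) {χ : L → ℂ} (hχ : IsIrrCharacter L χ)
    (hk : ∃ k ∈ K, χ k ≠ χ 1) : χ 1 = K.index := by
  have : Fintype K := Fintype.ofFinite K
  obtain ⟨θ, hθ, hne⟩ := exists_irr_under K hχ
  have hab' : ∀ a b : K, a * b = b * a := fun a b => Subtype.ext (hab a a.2 b b.2)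
  obtain ⟨f, hf⟩ := irr_exists_unitsHom_of_comm hab' hθ
  have hθ1 : θ ≠ fun _ => 1 := by
    rintro rfl
    obtain ⟨k, hk, hne'⟩ := hk
    exact hne' (apply_eq_of_inner_res_one_ne_zero K hχ hne hk)
  have hin : inertia K θ ≤ K := by
    intro g hg
    by_contra hgK
    refine hθ1 (funext fun k => ?_)
    obtain ⟨y, hy, hyk⟩ := exists_eq_comm K (eq_one_of_comm_of_not_mem K hC hgK) k.2
    have h1 := (mem_inertia K).1 hg ⟨y⁻¹, K.inv_mem hy⟩
    have h2 : k = ⟨y, hy⟩ * ⟨g * y⁻¹ * g⁻¹, hK.conj_mem _ (K.inv_mem hy) g⟩ :=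
      Subtype.ext (by simp [← hyk, mul_assoc])
    rw [hf] at h1 ⊢
    have h3 : f ⟨g * y⁻¹ * g⁻¹, hK.conj_mem _ (K.inv_mem hy) g⟩ = f ⟨y⁻¹, K.inv_mem hy⟩ :=
      Units.ext h1
    have h4 : (⟨y⁻¹, K.inv_mem hy⟩ : K) = (⟨y, hy⟩ : K)⁻¹ := rfl
    simp only
    rw [h2, map_mul, h3, h4, map_inv, mul_inv_cancel, Units.val_one]
  rw [eq_indFun_of_inner_ne_zero K hχ (irr_indFun_of_inertia_le K hθ hin) hne, indFun_one,
    irr_apply_one_of_comm hab' hθ, mul_one]

end Kernel

section Coherent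

variable {G : Type*} [Group G] [Fintype G] {L : Type*} [Group L] [Fintype L]

omit [Fintype L] in
theorem cross_mem_zspanOn {S : Set (L → ℂ)} {χ ξ : L → ℂ} (hχ : χ ∈ S) (hξ : ξ ∈ S)
    (hχc : IsCharacter L χ) (hξc : IsCharacter L ξ) :
    ξ 1 • χ - χ 1 • ξ ∈ zspanOn S ({1}ᶜ : Set L) := by
  obtain ⟨a, ha⟩ := char_apply_one hχc
  obtain ⟨b, hb⟩ := char_apply_one hξc
  refine ⟨?_, fun x hx => ?_⟩
  · rw [ha, hb, Nat.cast_smul_eq_nsmul, Nat.cast_smul_eq_nsmul]
    exact Submodule.sub_mem _ (nsmul_mem (Submodule.subset_span hχ) b)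
      (nsmul_mem (Submodule.subset_span hξ) a)
  · have hx1 : x = 1 := by simpa using hx
    simp [hx1, mul_comm]

theorem map_cross {S : Set (L → ℂ)} {τ : (L → ℂ) → (G → ℂ)} (hτ : IsLinearIsometryOn (zspan S) τ)
    {χ ξ : L → ℂ} (hχ : χ ∈ S) (hξ : ξ ∈ S) (hχc : IsCharacter L χ) (hξc : IsCharacter L ξ) :
    τ (ξ 1 • χ - χ 1 • ξ) = ξ 1 • τ χ - χ 1 • τ ξ := by
  obtain ⟨a, ha⟩ := char_apply_one hχc
  obtain ⟨b, hb⟩ := char_apply_one hξc
  have hχ' : χ ∈ zspan S := Submodule.subset_span hχ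
  have hξ' : ξ ∈ zspan S := Submodule.subset_span hξ
  have e1 : ξ 1 • χ - χ 1 • ξ = (b : ℤ) • χ + (-(a : ℤ)) • ξ := by
    rw [ha, hb]; funext x; simp [sub_eq_add_neg]
  rw [e1, hτ.1 _ (Submodule.smul_mem _ _ hχ') _ (Submodule.smul_mem _ _ hξ'), hτ.2.1 _ hχ',
    hτ.2.1 _ hξ', ha, hb]
  funext x; simp [sub_eq_add_neg]

theorem exists_irr_map {S : Set (L → ℂ)} {τ : (L → ℂ) → (G → ℂ)}
    (hτ : IsLinearIsometryOn (zspan S) τ) {χ : L → ℂ} (hχ : χ ∈ S) (hχi : IsIrrCharacter L χ) :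
    IsIrrCharacter G (τ χ) ∨ IsIrrCharacter G (-τ χ) := by
  have hχ' : χ ∈ zspan S := Submodule.subset_span hχ
  exact gen_norm_one (hτ.2.2.2 _ hχ') (by rw [hτ.2.2.1 _ hχ' _ hχ', irr_inner_self hχi])

/-- The combination `ξ(1) χ - χ(1) ξ` of two irreducible characters not constant on a Frobenius
kernel vanishes off the kernel. -/
theorem cross_apply_eq_zero (K : Subgroup L) [K.Normal]
    (hC : ∀ k ∈ K, k ≠ 1 → Subgroup.centralizer ({k} : Set L) ≤ K) {χ ξ : L → ℂ}
    (hχ : IsIrrCharacter L χ) (hχK : ∃ k ∈ K, χ k ≠ χ 1) (hξ : IsIrrCharacter L ξ)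
    (hξK : ∃ k ∈ K, ξ k ≠ ξ 1) {x : L} (hx : x ∉ K) : (ξ 1 • χ - χ 1 • ξ) x = 0 := by
  simp [irr_apply_eq_zero K hχ hχK (eq_one_of_comm_of_not_mem K hC hx),
    irr_apply_eq_zero K hξ hξK (eq_one_of_comm_of_not_mem K hC hx)]

theorem irr_inner_one_of_ne {K : Subgroup L} {χ : L → ℂ} (hχ : IsIrrCharacter L χ)
    (hχK : ∃ k ∈ K, χ k ≠ χ 1) : classInner χ (fun _ => 1) = 0 := by
  refine irr_inner_of_ne hχ irr_one ?_
  rintro rfl
  obtain ⟨k, -, hk⟩ := hχK
  exact hk rfl

theorem classInner_cross_eq_zero_of_const (K : Subgroup L) [K.Normal]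
    (hC : ∀ k ∈ K, k ≠ 1 → Subgroup.centralizer ({k} : Set L) ≤ K) {χ ξ : L → ℂ}
    (hχ : IsIrrCharacter L χ) (hχK : ∃ k ∈ K, χ k ≠ χ 1) (hξ : IsIrrCharacter L ξ)
    (hξK : ∃ k ∈ K, ξ k ≠ ξ 1) {ψ : L → ℂ} {c : ℂ} (hc : ∀ k ∈ K, k ≠ 1 → ψ k = c) :
    classInner ψ (ξ 1 • χ - χ 1 • ξ) = 0 := by
  refine classInner_eq_zero_of_const K hc (by simp [mul_comm])
    (fun x hx => cross_apply_eq_zero K hC hχ hχK hξ hξK hx) ?_
  rw [classInner_sub_left, classInner_smul_left, classInner_smul_left,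
    irr_inner_one_of_ne hχ hχK, irr_inner_one_of_ne hξ hξK]
  simp

theorem apply_eq_of_inner_cross (K : Subgroup L) [K.Normal] {ψ : L → ℂ}
    (hψ : IsClassFunction L ψ)
    (h : ∀ χ ξ : L → ℂ, IsIrrCharacter L χ → (∃ k ∈ K, χ k ≠ χ 1) → IsIrrCharacter L ξ →
      (∃ k ∈ K, ξ k ≠ ξ 1) → classInner ψ (ξ 1 • χ - χ 1 • ξ) = 0)
    {a b : L} (ha : a ∈ K) (ha1 : a ≠ 1) (hb : b ∈ K) (hb1 : b ≠ 1) : ψ a = ψ b := by
  refine apply_eq_of_inner K hψ (fun χ ξ hχ hχK hξ hξK => ?_) ha ha1 hb hb1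
  have := h χ ξ hχ hχK hξ hξK
  rwa [classInner_sub_right, classInner_smul_right, classInner_smul_right,
    irr_conj_apply_one hχ, irr_conj_apply_one hξ, sub_eq_zero] at this

/-- A generalized character constant on the non-identity elements of a non-trivial subgroup has an
integer value there. -/
theorem exists_int_of_const (K : Subgroup L) {δ : L → ℂ} (hδ : IsGeneralizedCharacter L δ)
    {k₀ : L} (hk₀ : k₀ ∈ K) (hk₁ : k₀ ≠ 1) (hc : ∀ k ∈ K, k ≠ 1 → δ k = δ k₀) :
    ∃ n : ℤ, δ k₀ = n := by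
  classical
  have : Fintype K := Fintype.ofFinite K
  refine exists_int_of_isIntegral_of_rat (gen_isIntegral hδ k₀) ?_
  obtain ⟨n, hn⟩ := gen_inner_int (gen_restrict hδ K) (gen_one (G := K))
  obtain ⟨d, hd⟩ := gen_apply_one hδ
  have h1 : ∑ k : K, δ k = δ 1 + ((Nat.card K : ℂ) - 1) * δ k₀ := by
    rw [← Finset.add_sum_erase _ _ (Finset.mem_univ (1 : K)),
      Finset.sum_congr rfl (fun (k : K) hk => hc k k.2
        (fun h => (Finset.mem_erase.1 hk).1 (Subtype.ext h))),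
      Finset.sum_const, Finset.card_erase_of_mem (Finset.mem_univ _), Finset.card_univ,
      nsmul_eq_mul, Nat.cast_sub Fintype.card_pos, Nat.card_eq_fintype_card]
    simp
  have h2 : 1 < Nat.card K := by
    have : Nontrivial K := ⟨⟨⟨k₀, hk₀⟩, 1, fun h => hk₁ (congrArg Subtype.val h)⟩⟩
    exact Finite.one_lt_card
  have h3 : (Nat.card K : ℂ) - 1 ≠ 0 := by
    rw [sub_ne_zero]; exact_mod_cast h2.ne'
  have h4 : classInner (fun k : K => δ k) (fun _ => 1) = n := hn
  rw [classInner_one_right, h1, hd] at h4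
  have h5 := natCard_cast_ne_zero K
  refine ⟨((Nat.card K : ℚ) * n - d) / (Nat.card K - 1), ?_⟩
  push_cast
  field_simp at h4 ⊢
  linear_combination h4

end Coherent

section Normalizer

variable {G : Type*} [Group G]

theorem centralizer_le_subgroupOf (K N : Subgroup G)
    (hC : ∀ k ∈ K, k ≠ 1 → Subgroup.centralizer ({k} : Set G) ≤ K) :
    ∀ k ∈ K.subgroupOf N, k ≠ 1 → Subgroup.centralizer ({k} : Set N) ≤ K.subgroupOf N := by
  intro k hk hk1 x hx
  refine hC k hk (fun h => hk1 (Subtype.ext h)) ?_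
  rw [Subgroup.mem_centralizer_singleton_iff] at hx ⊢
  exact congrArg Subtype.val hx

end Normalizer

end CL.TIFN
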